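import Mathlib
import Cfsg.Prelude.Def_Classical
import Cfsg.Agent.LinearOrders.Basic
import Cfsg.Agent.SympOrders.Adjoint

/-!
# Orders of elements of `PSU (n, q)`

`classification`: either a non-trivial self-adjoint idempotent commutes with `g`, or the order of
the image of `g` in `PSU` divides `p ^ T * singerM n q` (`singerM` the order of a Singer cycle).
-/

set_option autoImplicit false

open Polynomial Matrix

namespace CfsgLib.UnitOrders

variable {F : Type*} [Field F]

/-- The hermitian adjoint of a matrix. -/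
def uAdj (τ : F →+* F) {ι : Type*} (X : Matrix ι ι F) : Matrix ι ι F := (X.map τ)ᵀ

section Adj

variable {ι : Type*} [Fintype ι] [DecidableEq ι] (τ : F →+* F)

omit [Fintype ι] [DecidableEq ι] in
theorem uAdj_add (X Y : Matrix ι ι F) : uAdj τ (X + Y) = uAdj τ X + uAdj τ Y := by
  simp [uAdj, Matrix.map_add]

omit [DecidableEq ι] in
theorem uAdj_mul (X Y : Matrix ι ι F) : uAdj τ (X * Y) = uAdj τ Y * uAdj τ X := by
  simp [uAdj, Matrix.map_mul, transpose_mul]

omit [Fintype ι] in
theorem uAdj_smul_one (a : F) : uAdj τ (a • (1 : Matrix ι ι F)) = τ a • 1 := by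
  ext i j
  by_cases h : i = j <;> simp [uAdj, one_apply, h, eq_comm]

omit [Fintype ι] [DecidableEq ι] in
theorem uAdj_smul (a : F) (X : Matrix ι ι F) : uAdj τ (a • X) = τ a • uAdj τ X := by
  ext i j; simp [uAdj]

omit [Fintype ι] in
theorem uAdj_one : uAdj τ (1 : Matrix ι ι F) = 1 := by simp [uAdj]

omit [Fintype ι] [DecidableEq ι] in
theorem uAdj_uAdj (h : ∀ x, τ (τ x) = x) (X : Matrix ι ι F) : uAdj τ (uAdj τ X) = X := by
  ext i j; simp [uAdj, h]

theorem det_uAdj (X : Matrix ι ι F) : (uAdj τ X).det = τ X.det := by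
  rw [uAdj, det_transpose, RingHom.map_det]; rfl

end Adj

variable {n q : ℕ} {τ : F →+* F}

theorem mem_SU_iff (hτ : ∀ x, τ x = x ^ q) (g : Matrix.SpecialLinearGroup (Fin n) F) :
    g ∈ Cfsg.SU n F q ↔ uAdj τ (g : Matrix (Fin n) (Fin n) F) * g = 1 := by
  set A := (g : Matrix (Fin n) (Fin n) F) with hA
  have hB : ∀ u v : Fin n → F, Cfsg.hermForm n F q u v = u ⬝ᵥ (τ ∘ v) := fun u v => by
    simp [Cfsg.hermForm, dotProduct, hτ]
  have hτv : ∀ v : Fin n → F, τ ∘ (A *ᵥ v) = A.map τ *ᵥ (τ ∘ v) := fun v =>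
    funext fun i => RingHom.map_mulVec τ A v i
  have key : ∀ u v, Cfsg.hermForm n F q (A *ᵥ u) (A *ᵥ v) = u ⬝ᵥ ((Aᵀ * A.map τ) *ᵥ (τ ∘ v)) := fun u v => by
    rw [hB, hτv, dotProduct_mulVec, dotProduct_mulVec, ← vecMul_vecMul, vecMul_transpose]
  have htr : uAdj τ A * A = 1 ↔ Aᵀ * A.map τ = 1 := by
    constructor
    · intro h
      have := congrArg Matrix.transpose h
      simpa [uAdj, transpose_mul] using this
    · intro h
      have := congrArg Matrix.transpose h
      simpa [uAdj, transpose_mul] using this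
  rw [htr]
  constructor
  · intro h
    ext i j
    have hh : Cfsg.hermForm n F q (A *ᵥ Pi.single i 1) (A *ᵥ Pi.single j 1) =
        Cfsg.hermForm n F q (Pi.single i 1) (Pi.single j 1) := h (Pi.single i 1) (Pi.single j 1)
    have hs : τ ∘ (Pi.single j (1 : F) : Fin n → F) = Pi.single j 1 := by
      ext k; rcases eq_or_ne k j with rfl | hk
      · simp
      · simp [hk]
    rw [key, hB, hs] at hh
    simpa [mulVec_single_one, single_dotProduct, one_apply, Pi.single_apply, eq_comm] using hh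
  · intro h u v
    show Cfsg.hermForm n F q (A *ᵥ u) (A *ᵥ v) = _
    rw [key, h, one_mulVec, hB]

theorem uAdj_mul_self (hτ : ∀ x, τ x = x ^ q) (g : Cfsg.SU n F q) :
    uAdj τ ((g : Matrix.SpecialLinearGroup (Fin n) F) : Matrix (Fin n) (Fin n) F) *
      ((g : Matrix.SpecialLinearGroup (Fin n) F) : Matrix (Fin n) (Fin n) F) = 1 :=
  (mem_SU_iff hτ _).mp g.2

/-- An element of `SU` from a matrix. -/
def suMk (hτ : ∀ x, τ x = x ^ q) (M : Matrix (Fin n) (Fin n) F) (hdet : M.det = 1)
    (h : uAdj τ M * M = 1) : Cfsg.SU n F q :=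
  ⟨⟨M, hdet⟩, (mem_SU_iff hτ _).mpr h⟩

/-- The underlying matrix. -/
abbrev suMat (g : Cfsg.SU n F q) : Matrix (Fin n) (Fin n) F :=
  ((g : Matrix.SpecialLinearGroup (Fin n) F) : Matrix (Fin n) (Fin n) F)

theorem suMat_pow (g : Cfsg.SU n F q) (k : ℕ) : suMat (g ^ k) = suMat g ^ k := by
  simp [suMat, SubmonoidClass.coe_pow, Matrix.SpecialLinearGroup.coe_pow]

theorem suMat_mul (g h : Cfsg.SU n F q) : suMat (g * h) = suMat g * suMat h := by
  simp [suMat]

theorem suMat_injective : Function.Injective (suMat (F := F) (n := n) (q := q)) := fun g h e =>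
  Subtype.ext (Subtype.ext e)

theorem mem_center_of_scalar {g : Cfsg.SU n F q} {c : F} (h : suMat g = c • 1) :
    g ∈ Subgroup.center (Cfsg.SU n F q) := by
  rw [Subgroup.mem_center_iff]
  intro x
  apply suMat_injective
  rw [suMat_mul, suMat_mul, h, smul_mul_assoc, mul_smul_comm, one_mul, mul_one]

theorem mk_pow_eq_one_of_scalar {g : Cfsg.SU n F q} {k : ℕ} {c : F} (h : suMat g ^ k = c • 1) :
    (QuotientGroup.mk g : Cfsg.PSU n F q) ^ k = 1 := by
  rw [← QuotientGroup.mk_pow, QuotientGroup.eq_one_iff]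
  exact mem_center_of_scalar (by rw [suMat_pow]; exact h)

/-- `(q^n - (-1)^n)/(q+1)`, the order of a Singer cycle of `SU (n, q)`. -/
def geomU (n q : ℕ) : ℕ := if Even n then (q ^ n - 1) / (q + 1) else (q ^ n + 1) / (q + 1)

/-- The order of a Singer cycle in `PSU (n, q)`. -/
def singerM (n q : ℕ) : ℕ := geomU n q / Nat.gcd (geomU n q) (q + 1)

theorem geomU_dvd_singerM_mul (n q : ℕ) : geomU n q ∣ singerM n q * (q + 1) := by
  have h1 := Nat.gcd_dvd_left (geomU n q) (q + 1)
  conv_lhs => rw [← Nat.div_mul_cancel h1]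
  exact mul_dvd_mul_left _ (Nat.gcd_dvd_right _ _)

theorem succ_dvd_pow_add_one (q : ℕ) {n : ℕ} (hn : Odd n) : q + 1 ∣ q ^ n + 1 := by
  simpa using hn.nat_add_dvd_pow_add_pow q 1

theorem succ_dvd_pow_sub_one (q : ℕ) {n : ℕ} (hn : Even n) : q + 1 ∣ q ^ n - 1 := by
  obtain ⟨h, rfl⟩ := hn
  refine dvd_trans ?_ (Nat.pow_sub_one_dvd_pow_sub_one q (show 2 ∣ h + h from ⟨h, by ring⟩))
  exact ⟨q - 1, by rw [← Nat.sq_sub_sq, one_pow]⟩

theorem geomU_even_eq {h q : ℕ} (hq : 1 < q) :
    geomU (2 * h) q = CfsgLib.LinearOrders.geomN (q ^ 2) h * (q - 1) := by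
  have h1 : 1 ≤ q ^ 2 := Nat.one_le_pow _ _ (by omega)
  have hgeom : CfsgLib.LinearOrders.geomN (q ^ 2) h * (q ^ 2 - 1) = (q ^ 2) ^ h - 1 := by
    have h2 : 1 ≤ (q ^ 2) ^ h := Nat.one_le_pow _ _ (by omega)
    zify [h1, h2, CfsgLib.LinearOrders.geomN]
    exact geom_sum_mul ((q : ℤ) ^ 2) h
  rw [geomU, if_pos ⟨h, two_mul h⟩, pow_mul, ← hgeom,
    show q ^ 2 - 1 = (q - 1) * (q + 1) by rw [mul_comm, ← Nat.sq_sub_sq, one_pow],
    ← mul_assoc, Nat.mul_div_cancel _ (by omega)]

/-- A root of unity argument: `x ^ geomU = 1`. -/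
theorem pow_geomU_of_one_orbit {K : Type*} [Monoid K] {x : K} {q d m E p a : ℕ} (hq : q = p ^ a)
    (hq1 : 1 < q) (ha : 1 ≤ a) (hp : p.Prime) (hd : Odd d) (hxd : x ^ (q ^ d + 1) = 1)
    (hN : x ^ CfsgLib.LinearOrders.geomN (q ^ 2) (d * m) = 1) (hE : ¬ p ∣ E) (hxE : x ^ E = 1) :
    x ^ geomU (d * m) q = 1 := by
  rcases Nat.even_or_odd m with ⟨h, rfl⟩ | hm
  · -- even
    rw [show d * (h + h) = 2 * (d * h) by ring, geomU_even_eq hq1]
    set G := CfsgLib.LinearOrders.geomN (q ^ 2) (d * h) with hG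
    have h1 : CfsgLib.LinearOrders.geomN (q ^ 2) (d * (h + h)) = G * (1 + (q ^ 2) ^ (d * h)) := by
      rw [hG, CfsgLib.LinearOrders.geomN, CfsgLib.LinearOrders.geomN,
        show d * (h + h) = d * h + d * h by ring, Finset.sum_range_add, mul_add, mul_one, Finset.sum_mul]
      congr 1
      exact Finset.sum_congr rfl fun i _ => by rw [pow_add, mul_comm]
    rw [h1] at hN
    have h2 : x ^ (G * ((q ^ 2) ^ (d * h) - 1)) = 1 := by
      have h3 : q ^ d + 1 ∣ (q ^ 2) ^ (d * h) - 1 := by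
        have h4 : q ^ d + 1 ∣ q ^ (2 * d) - 1 := by
          rw [two_mul, pow_add]
          exact ⟨q ^ d - 1, by rw [← Nat.sq_sub_sq, one_pow, sq]⟩
        rw [← pow_mul]
        exact h4.trans (Nat.pow_sub_one_dvd_pow_sub_one q ⟨h, by ring⟩)
      obtain ⟨c, hc⟩ := h3
      rw [hc, mul_comm G, mul_assoc, pow_mul, hxd, one_pow]
    have hpos : 1 ≤ (q ^ 2) ^ (d * h) := Nat.one_le_pow _ _ (by positivity)
    have h5 : x ^ (G * 2) = 1 := by
      rw [show G * (1 + (q ^ 2) ^ (d * h)) = G * ((q ^ 2) ^ (d * h) - 1) + G * 2 by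
        rw [← mul_add]; congr 1; omega, pow_add, h2, one_mul] at hN
      exact hN
    rcases Nat.even_or_odd q with hqe | hqo
    · -- `q` even, so the order of `x` is odd
      have hp2 : p = 2 := by
        rw [hq] at hqe
        have h2' : 2 ∣ p ^ a := even_iff_two_dvd.mp hqe
        exact ((Nat.prime_dvd_prime_iff_eq Nat.prime_two hp).mp (Nat.prime_two.dvd_of_dvd_pow h2')).symm
      subst hp2
      have hcop : Nat.Coprime (orderOf x) 2 :=
        Nat.Coprime.coprime_dvd_left (orderOf_dvd_of_pow_eq_one hxE)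
          ((Nat.prime_two.coprime_iff_not_dvd).mpr hE).symm
      have h6 : orderOf x ∣ G := hcop.dvd_of_dvd_mul_right (orderOf_dvd_of_pow_eq_one h5)
      exact orderOf_dvd_iff_pow_eq_one.mp (h6.trans (dvd_mul_right _ _))
    · obtain ⟨c, hc⟩ : 2 ∣ q - 1 := by have := Nat.odd_iff.mp hqo; omega
      rw [hc, ← mul_assoc, pow_mul, h5, one_pow]
  · -- odd
    have hn : Odd (d * m) := hd.mul hm
    rw [geomU, if_neg (Nat.not_even_iff_odd.mpr hn)]
    set N := (q ^ (d * m) + 1) / (q + 1) with hNdef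
    have hN1 : N * (q + 1) = q ^ (d * m) + 1 := Nat.div_mul_cancel (succ_dvd_pow_add_one q hn)
    set S := CfsgLib.LinearOrders.geomN q (d * m) with hS
    have hS1 : CfsgLib.LinearOrders.geomN (q ^ 2) (d * m) = N * S := by
      have e1 : ∀ Q k, 1 ≤ Q → CfsgLib.LinearOrders.geomN Q k * (Q - 1) = Q ^ k - 1 := by
        intro Q k hQ
        have h2 : 1 ≤ Q ^ k := Nat.one_le_pow _ _ hQ
        zify [hQ, h2, CfsgLib.LinearOrders.geomN]
        exact geom_sum_mul (Q : ℤ) k
      refine Nat.eq_of_mul_eq_mul_right (show 0 < q ^ 2 - 1 by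
        have := Nat.one_lt_pow (n := 2) (by omega) hq1; omega) ?_
      rw [e1 _ _ (Nat.one_le_pow _ _ (by omega)),
        show q ^ 2 - 1 = (q + 1) * (q - 1) by rw [← Nat.sq_sub_sq, one_pow],
        show N * S * ((q + 1) * (q - 1)) = N * (q + 1) * (S * (q - 1)) by ring, hS,
        e1 q _ (by omega), hN1, ← pow_mul, mul_comm 2, pow_mul, ← Nat.sq_sub_sq, one_pow]
    have hxn : x ^ (N * (q + 1)) = 1 := by
      rw [hN1]
      have hdvd : q ^ d + 1 ∣ q ^ (d * m) + 1 := by
        have := hm.nat_add_dvd_pow_add_pow (q ^ d) 1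
        rwa [one_pow, ← pow_mul] at this
      obtain ⟨c, hc⟩ := hdvd
      rw [hc, pow_mul, hxd, one_pow]
    rw [hS1] at hN
    have hcop : Nat.Coprime S (q + 1) := by
      have hsum : ∀ l, CfsgLib.LinearOrders.geomN q (2 * l + 1) % (q + 1) = 1 := by
        intro l
        induction l with
        | zero => simp [CfsgLib.LinearOrders.geomN, Nat.mod_eq_of_lt (show 1 < q + 1 by omega)]
        | succ l ih =>
          have hs : CfsgLib.LinearOrders.geomN q (2 * (l + 1) + 1) =
              CfsgLib.LinearOrders.geomN q (2 * l + 1) + q ^ (2 * l + 1) * (q + 1) := by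
            simp only [CfsgLib.LinearOrders.geomN, show 2 * (l + 1) + 1 = 2 * l + 1 + 1 + 1 by ring,
              Finset.sum_range_succ]
            ring
          rw [hs, Nat.add_mul_mod_self_right, ih]
      obtain ⟨l, hl⟩ := hn
      rw [Nat.Coprime, Nat.gcd_comm, Nat.gcd_rec, hS, hl, hsum, Nat.gcd_one_left]
    have h7 : orderOf x ∣ Nat.gcd (N * S) (N * (q + 1)) :=
      Nat.dvd_gcd (orderOf_dvd_of_pow_eq_one hN) (orderOf_dvd_of_pow_eq_one hxn)
    rw [Nat.gcd_mul_left, hcop.gcd_eq_one, mul_one] at h7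
    exact orderOf_dvd_iff_pow_eq_one.mp h7

variable [Fintype F]

/-- The self-conjugate case: `x ^ (q ^ d + 1) = 1` with `d` odd. -/
theorem root_of_selfConjugate (hτ : ∀ x, τ x = x ^ q) (hττ : ∀ x, τ (τ x) = x) (hF : Fintype.card F = q ^ 2)
    {f : F[X]} (hf : Irreducible f) {E : ℕ} (hE : f ∣ X ^ E - 1) (hEpos : 0 < E)
    {p a : ℕ} [Fact p.Prime] [CharP F p] (hq : q = p ^ a)
    (hrec : f ∣ (f.map τ).comp (X ^ (E - 1))) :
    Odd f.natDegree ∧ AdjoinRoot.root f ^ (q ^ f.natDegree + 1) = 1 := by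
  haveI : Fact (Irreducible f) := ⟨hf⟩
  set x := AdjoinRoot.root f with hx
  haveI : CharP (AdjoinRoot f) p := charP_of_injective_algebraMap (algebraMap F _).injective p
  have hxE : x ^ E = 1 := by
    have := AdjoinRoot.mk_eq_zero.mpr hE
    rw [map_sub, map_pow, AdjoinRoot.mk_X, map_one, sub_eq_zero] at this
    exact this
  set z := x ^ (E - 1) with hz
  have hzx : z * x = 1 := by rw [hz, ← pow_succ, Nat.sub_add_cancel hEpos, hxE]
  have hfz : aeval z (f.map τ) = 0 := by
    have := AdjoinRoot.mk_eq_zero.mpr hrec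
    rw [← AdjoinRoot.aeval_eq, aeval_comp, map_pow, aeval_X] at this
    exact this
  let φq : AdjoinRoot f →+* AdjoinRoot f := iterateFrobenius (AdjoinRoot f) p a
  have hφq : ∀ y, φq y = y ^ q := fun y => by simp [φq, iterateFrobenius_def, hq]
  have hfy : aeval (z ^ q) f = 0 := by
    have h := congrArg φq hfz
    rw [map_zero, hφq] at h
    have h2 : f = (f.map τ).map τ := by
      rw [Polynomial.map_map]
      conv_lhs => rw [← Polynomial.map_id (p := f)]
      congr 1
      exact RingHom.ext fun y => (hττ y).symm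
    have h3 : aeval (z ^ q) ((f.map τ).map τ) = 0 := by
      rw [aeval_def, eval₂_map, ← h, aeval_def, ← hφq z, ← hφq (eval₂ _ z _),
        Polynomial.hom_eval₂]
      congr 1
      exact RingHom.ext fun y => by simp [hτ, hφq]
    rwa [← h2] at h3
  let φ : AdjoinRoot f →ₐ[F] AdjoinRoot f := AdjoinRoot.liftAlgHom f (Algebra.ofId F _) (z ^ q)
    (by rw [aeval_def] at hfy; exact hfy)
  haveI : Finite (AdjoinRoot f) := Nat.finite_of_card_ne_zero (by
    rw [CfsgLib.LinearOrders.card_adjoinRoot hf.ne_zero]; exact pow_ne_zero _ Fintype.card_ne_zero)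
  let φe : AdjoinRoot f ≃ₐ[F] AdjoinRoot f := AlgEquiv.ofBijective φ
    ⟨φ.injective, Finite.injective_iff_surjective.mp φ.injective⟩
  obtain ⟨i, hi⟩ := (FiniteField.bijective_frobeniusAlgEquivOfAlgebraic_pow F (AdjoinRoot f)).2 φe
  set d := f.natDegree with hd
  have hfin : Module.finrank F (AdjoinRoot f) = d := by
    rw [(AdjoinRoot.powerBasis hf.ne_zero).finrank, AdjoinRoot.powerBasis_dim]
  have hid : i.val < d := hfin ▸ i.2
  have hxq : x ^ (q ^ 2) ^ i.val = z ^ q := by
    have hφx : φ x = z ^ q := AdjoinRoot.liftAlgHom_root _ _ _ _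
    rw [← hφx]
    have := congrArg (fun e : AdjoinRoot f ≃ₐ[F] AdjoinRoot f => e x) hi
    simp [AlgEquiv.coe_pow, FiniteField.coe_frobeniusAlgEquivOfAlgebraic, pow_iterate, φe, hF] at this
    exact this
  have hkey : x ^ (q ^ (2 * i.val) + q) = 1 := by
    rw [pow_add, pow_mul q 2, hxq, ← mul_pow, hzx, one_pow]
  have hcopq : Nat.Coprime (orderOf x) q := by
    rw [hq]
    apply Nat.Coprime.pow_right
    rw [Nat.coprime_comm, (Fact.out : p.Prime).coprime_iff_not_dvd]
    intro hp
    -- no elements of order `p` in a field of characteristic `p`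
    obtain ⟨w, hw⟩ : ∃ w, orderOf x = p * w := hp
    have hfin' : IsOfFinOrder x := isOfFinOrder_iff_pow_eq_one.mpr ⟨E, hEpos, hxE⟩
    have h1 : (x ^ w) ^ p = 1 := by rw [← pow_mul, mul_comm, ← hw, pow_orderOf_eq_one]
    have h2 : x ^ w = 1 := by
      have h3 : (x ^ w - 1) ^ p = 0 := by rw [sub_pow_char, h1, one_pow, sub_self]
      exact sub_eq_zero.mp (pow_eq_zero_iff (Fact.out : p.Prime).ne_zero |>.mp h3)
    have hpos := hfin'.orderOf_pos
    have h4 := Nat.le_of_dvd (Nat.pos_of_ne_zero fun h0 => by rw [h0, mul_zero] at hw; omega)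
      (orderOf_dvd_of_pow_eq_one h2)
    have := (Fact.out : p.Prime).two_le
    nlinarith
  have hfix : x ^ (q ^ 2) ^ d = x := by
    haveI : Fintype (AdjoinRoot f) := Fintype.ofFinite _
    have := FiniteField.pow_card x
    rwa [← Nat.card_eq_fintype_card, CfsgLib.LinearOrders.card_adjoinRoot hf.ne_zero, hF, ← hd] at this
  have hdeg : ∀ k, x ^ (q ^ 2) ^ k = x → d ∣ k := fun k hk => by
    refine hf.natDegree_dvd_of_dvd_X_pow_card_pow_sub_X ?_
    rw [← AdjoinRoot.mk_eq_zero, map_sub, map_pow, AdjoinRoot.mk_X, Nat.card_eq_fintype_card, ← hx, hF,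
      hk, sub_self]
  by_cases hi0 : i.val = 0
  · -- `x` lies in `F`
    have hzq : z ^ q = x := by rw [← hxq, hi0, pow_zero, pow_one]
    have h1 : x ^ (q + 1) = 1 := by
      rw [hi0, mul_zero, pow_zero, add_comm] at hkey; exact hkey
    have hd1 : d = 1 := by
      have hfix1 : x ^ (q ^ 2) ^ 1 = x := by
        obtain ⟨c, hc⟩ : q + 1 ∣ q ^ 2 - 1 := ⟨q - 1, by rw [← Nat.sq_sub_sq, one_pow]⟩
        have hpos : 1 ≤ q ^ 2 := by rw [← hF]; exact Fintype.card_pos
        rw [pow_one, ← Nat.sub_add_cancel hpos, pow_add, pow_one, hc, pow_mul, h1, one_pow, one_mul]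
      exact Nat.dvd_one.mp (hdeg 1 hfix1)
    rw [hd1, pow_one]
    exact ⟨odd_one, h1⟩
  · obtain ⟨j, hj⟩ : ∃ j, i.val = j + 1 := ⟨i.val - 1, by omega⟩
    have h1 : x ^ (q ^ (2 * j + 1) + 1) = 1 := by
      have h2 : orderOf x ∣ (q ^ (2 * j + 1) + 1) * q := by
        have h3 := orderOf_dvd_of_pow_eq_one hkey
        rw [hj, show q ^ (2 * (j + 1)) + q = (q ^ (2 * j + 1) + 1) * q by ring] at h3
        exact h3
      exact orderOf_dvd_iff_pow_eq_one.mp (hcopq.dvd_of_dvd_mul_right h2)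
    have h2 : x ^ (q ^ 2) ^ (2 * j + 1) = x := by
      obtain ⟨c, hc⟩ : q ^ (2 * j + 1) + 1 ∣ (q ^ 2) ^ (2 * j + 1) - 1 :=
        ⟨q ^ (2 * j + 1) - 1, by rw [← pow_mul, mul_comm, pow_mul, ← Nat.sq_sub_sq, one_pow]⟩
      have hpos : 1 ≤ (q ^ 2) ^ (2 * j + 1) := by rw [← hF]; exact Nat.one_le_pow _ _ Fintype.card_pos
      rw [← Nat.sub_add_cancel hpos, pow_add, pow_one, hc, pow_mul, h1, one_pow, one_mul]
    obtain ⟨c, hc⟩ := hdeg _ h2
    have hc1 : c = 1 := by
      rcases Nat.lt_or_ge c 2 with h | h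
      · interval_cases c <;> omega
      · rcases Nat.lt_or_ge c 3 with h' | h'
        · have : c = 2 := by omega
          subst this; omega
        · have := Nat.mul_le_mul_left d h'
          omega
    rw [hc1, mul_one] at hc
    rw [← hc]
    exact ⟨⟨j, rfl⟩, h1⟩

open CfsgLib.LinearOrders (geomN card_adjoinRoot exists_algebraMap_eq eq_pow_of_minpoly_irreducible
  pow_pTimes)

omit [Fintype F] in
theorem minpoly_eq_of_irreducible {ι : Type*} [Fintype ι] [DecidableEq ι] [Nonempty ι]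
    (A : Matrix ι ι F) {f : F[X]} (hfm : f.Monic) (hf : Irreducible f) (h : aeval A f = 0) :
    minpoly F A = f :=
  (eq_of_monic_of_associated (minpoly.monic (Matrix.isIntegral A)) hfm
    ((hf.dvd_iff.mp (minpoly.dvd F A h)).resolve_left (minpoly.not_isUnit F A)).symm)

theorem root_pow_geomN {f : F[X]} (hfm : f.Monic) (hf : Irreducible f) (j : ℕ) :
    AdjoinRoot.root f ^ geomN (Fintype.card F) (j * f.natDegree) =
      algebraMap F (AdjoinRoot f) (((-1) ^ f.natDegree * f.coeff 0) ^ j) := by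
  haveI : Fact (Irreducible f) := ⟨hf⟩
  haveI : Finite (AdjoinRoot f) := Nat.finite_of_card_ne_zero (by
    rw [card_adjoinRoot hf.ne_zero]; exact pow_ne_zero _ Fintype.card_ne_zero)
  set x := AdjoinRoot.root f
  set d := f.natDegree with hd
  set ν : F := (-1) ^ d * f.coeff 0
  set Q := Fintype.card F with hQ
  have hQ1 : 1 < Q := Fintype.one_lt_card
  have hν : algebraMap F (AdjoinRoot f) ν = x ^ geomN Q d := by
    have h1 := Algebra.PowerBasis.norm_gen_eq_coeff_zero_minpoly (AdjoinRoot.powerBasis hf.ne_zero)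
    rw [AdjoinRoot.powerBasis_gen, AdjoinRoot.powerBasis_dim, AdjoinRoot.minpoly_root hf.ne_zero,
      hfm.leadingCoeff, inv_one, map_one, mul_one] at h1
    show algebraMap F (AdjoinRoot f) ((-1) ^ d * f.coeff 0) = _
    rw [← h1, FiniteField.algebraMap_norm_eq_pow, card_adjoinRoot hf.ne_zero,
      Nat.card_eq_fintype_card, geomN, Nat.geomSum_eq hQ1]
  induction j with
  | zero => simp [geomN]
  | succ j ih =>
    have hs : geomN Q ((j + 1) * d) = geomN Q (j * d) + geomN Q d * Q ^ (j * d) := by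
      rw [geomN, geomN, geomN, Nat.succ_mul, Finset.sum_range_add, Finset.sum_mul]
      congr 1
      exact Finset.sum_congr rfl fun i _ => by rw [pow_add, mul_comm]
    rw [hs, pow_add, pow_mul, ih, ← hν, ← map_pow, FiniteField.pow_card_pow, ← map_mul, ← pow_succ]

/-- The determinant of the part of `s` on the range of the idempotent `e`. -/
theorem det_part {ι : Type*} [Fintype ι] [DecidableEq ι] (s e : Matrix ι ι F) {f : F[X]}
    (hfm : f.Monic) (hf : Irreducible f) (he : IsIdempotentElem e) (hc : Commute e s)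
    (hfe : aeval s f * e = 0) (hpos : 0 < e.rank) :
    ∃ k, e.rank = k * f.natDegree ∧
      (s * e + (1 - e)).det = ((-1) ^ f.natDegree * f.coeff 0) ^ k := by
  classical
  set W := LinearMap.range (Matrix.toLin' e)
  have hW : ∀ v ∈ W, Matrix.toLin' s v ∈ W := by
    rintro v ⟨w, rfl⟩
    refine ⟨Matrix.toLin' s w, ?_⟩
    rw [← LinearMap.comp_apply, ← Matrix.toLin'_mul, hc.eq, Matrix.toLin'_mul]
    rfl
  let φ : Module.End F W := (Matrix.toLin' s).restrict hW
  have hev : ∀ v : W, Matrix.toLin' e v = (v : ι → F) := by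
    rintro ⟨-, w, rfl⟩
    show Matrix.toLin' e (Matrix.toLin' e w) = Matrix.toLin' e w
    rw [← LinearMap.comp_apply, ← Matrix.toLin'_mul, he.eq]
  have hpowφ : ∀ (k : ℕ) (v : W), ((φ ^ k) v : ι → F) = Matrix.toLin' (s ^ k) v := by
    intro k
    induction k with
    | zero => intro v; simp
    | succ k ih =>
      intro v
      rw [pow_succ, Module.End.mul_apply, ih, pow_succ, Matrix.toLin'_mul]
      rfl
  have haev : ∀ (Q : F[X]) (v : W), ((aeval φ Q) v : ι → F) = Matrix.toLin' (aeval s Q) v := by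
    intro Q
    induction Q using Polynomial.induction_on' with
    | add Q R hQ hR => intro v; simp [hQ, hR]
    | monomial k a =>
      intro v
      simp [aeval_monomial, Algebra.algebraMap_eq_smul_one, hpowφ]
  have hφ : aeval φ f = 0 := by
    refine LinearMap.ext fun v => Subtype.ext ?_
    rw [haev, ← hev v, ← LinearMap.comp_apply, ← Matrix.toLin'_mul, hfe]
    simp
  have hrank : Module.finrank F W = e.rank := rfl
  let b := Module.finBasis F W
  haveI : Nonempty (Fin (Module.finrank F W)) := ⟨⟨0, hrank ▸ hpos⟩⟩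
  set M := LinearMap.toMatrixAlgEquiv b φ with hM
  have hMf : aeval M f = 0 := by
    rw [hM, aeval_algEquiv, AlgHom.comp_apply, hφ, map_zero]
  have hmin := minpoly_eq_of_irreducible M hfm hf hMf
  obtain ⟨k, hk⟩ := eq_pow_of_minpoly_irreducible M (hmin ▸ hf)
  rw [hmin] at hk
  have hkd : e.rank = k * f.natDegree := by
    have := congrArg natDegree hk
    rwa [charpoly_natDegree_eq_dim, natDegree_pow, Fintype.card_fin, hrank] at this
  refine ⟨k, hkd, ?_⟩
  have hT : ∀ v, Matrix.toLin' (s * e + (1 - e)) v - v ∈ W := fun v => by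
    refine ⟨Matrix.toLin' (s - 1) v, ?_⟩
    have h1 : e * (s - 1) = s * e + (1 - e) - 1 := by rw [mul_sub, mul_one, hc.eq]; abel
    rw [← LinearMap.comp_apply, ← Matrix.toLin'_mul, h1, map_sub, LinearMap.sub_apply]
    simp
  have hle : W ≤ W.comap (Matrix.toLin' (s * e + (1 - e))) := fun v hv => by
    have := W.add_mem (hT v) hv
    rwa [sub_add_cancel] at this
  rw [← LinearMap.det_toLin', LinearMap.det_eq_det_mul_det W _ hle]
  have hQ : W.mapQ W (Matrix.toLin' (s * e + (1 - e))) hle = LinearMap.id := by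
    refine Submodule.linearMap_qext _ (LinearMap.ext fun v => ?_)
    simp only [LinearMap.comp_apply, Submodule.mkQ_apply, Submodule.mapQ_apply, LinearMap.id_apply]
    exact (Submodule.Quotient.eq W).mpr (hT v)
  have hres : (Matrix.toLin' (s * e + (1 - e))).restrict hle = φ := by
    refine LinearMap.ext fun v => Subtype.ext ?_
    show Matrix.toLin' (s * e + (1 - e)) v = Matrix.toLin' s v
    rw [map_add, map_sub, LinearMap.add_apply, LinearMap.sub_apply, Matrix.toLin'_mul,
      LinearMap.comp_apply, Matrix.toLin'_one, LinearMap.id_apply, hev, sub_self, add_zero]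
  rw [hQ, LinearMap.det_id, mul_one, hres, ← LinearMap.det_toMatrix b]
  change M.det = _
  rw [Matrix.det_eq_sign_charpoly_coeff, hk, coeff_zero_eq_eval_zero, eval_pow,
    ← coeff_zero_eq_eval_zero, Fintype.card_fin, hrank, hkd, mul_comm k, pow_mul, ← mul_pow]

omit [Fintype F] in
theorem rank_map_ringHom {ι : Type*} [Fintype ι] [DecidableEq ι] (hττ : ∀ x, τ (τ x) = x)
    (X : Matrix ι ι F) [Finite F] : (X.map τ).rank = X.rank := by
  have h : ∀ (Y : Matrix ι ι F) (v : ι → F), τ ∘ (Y *ᵥ v) = Y.map τ *ᵥ (τ ∘ v) := fun Y v =>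
    funext fun i => RingHom.map_mulVec τ Y v i
  have hmm : (X.map τ).map τ = X := by ext i j; simp [hττ]
  have hvv : ∀ w : ι → F, τ ∘ (τ ∘ w) = w := fun w => funext fun i => hττ _
  let e : LinearMap.range (X.map τ).mulVecLin ≃ LinearMap.range X.mulVecLin :=
    { toFun := fun w => ⟨τ ∘ (w : ι → F), by
        obtain ⟨v, hv⟩ := w.2
        exact ⟨τ ∘ v, by rw [← hv]; simp only [mulVecLin_apply, h, hmm]⟩⟩
      invFun := fun w => ⟨τ ∘ (w : ι → F), by
        obtain ⟨v, hv⟩ := w.2
        exact ⟨τ ∘ v, by rw [← hv]; simp only [mulVecLin_apply, h]⟩⟩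
      left_inv := fun w => Subtype.ext (hvv _)
      right_inv := fun w => Subtype.ext (hvv _) }
  have h1 := Nat.card_congr e
  rw [Module.natCard_eq_pow_finrank (K := F) (V := LinearMap.range (X.map τ).mulVecLin),
    Module.natCard_eq_pow_finrank (K := F) (V := LinearMap.range X.mulVecLin)] at h1
  exact Nat.pow_right_injective (Finite.one_lt_card (α := F)) h1

/-- From `x ^ geomU = 1`, the `singerM`-th power is a scalar of norm one. -/
theorem exists_scalar_of_pow_geomU (hF : Fintype.card F = q ^ 2) {K : Type*} [Field K] [Algebra F K]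
    {x : K} (hx : x ^ geomU n q = 1) :
    ∃ c : F, x ^ singerM n q = algebraMap F K c ∧ c ^ (q + 1) = 1 := by
  obtain ⟨k, hk⟩ := geomU_dvd_singerM_mul n q
  have h1 : (x ^ singerM n q) ^ (q + 1) = 1 := by rw [← pow_mul, hk, pow_mul, hx, one_pow]
  obtain ⟨c, hc⟩ := exists_algebraMap_eq (F := F) (x ^ singerM n q) (by
    obtain ⟨l, hl⟩ : q + 1 ∣ q ^ 2 - 1 := ⟨q - 1, by rw [← Nat.sq_sub_sq, one_pow]⟩
    have hpos : 1 ≤ q ^ 2 := hF ▸ Fintype.card_pos
    rw [hF, ← Nat.sub_add_cancel hpos, pow_succ, hl, pow_mul, h1, one_pow, one_mul])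
  refine ⟨c, hc.symm, (algebraMap F K).injective ?_⟩
  rw [map_pow, hc, h1, map_one]

/-- Either a non-trivial self-adjoint idempotent commutes with `g`, or the order of the image of
`g` in `PSU` divides `p ^ T * singerM n q`. -/
theorem classification (hτ : ∀ x, τ x = x ^ q) (hττ : ∀ x, τ (τ x) = x) (hF : Fintype.card F = q ^ 2)
    (hn : 1 ≤ n) {p a T : ℕ} [Fact p.Prime] [CharP F p] (hq : q = p ^ a) (ha : 1 ≤ a)
    (hT : n ≤ p ^ T) (g : Cfsg.SU n F q) :
    (∃ e : Matrix (Fin n) (Fin n) F, IsIdempotentElem e ∧ uAdj τ e = e ∧ e ≠ 0 ∧ e ≠ 1 ∧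
        Commute e (suMat g)) ∨
      orderOf (QuotientGroup.mk g : Cfsg.PSU n F q) ∣ p ^ T * singerM n q := by
  classical
  haveI : Nonempty (Fin n) := ⟨⟨0, hn⟩⟩
  have hp : p.Prime := Fact.out
  have hq1 : 1 < q := hq ▸ Nat.one_lt_pow (by omega) hp.one_lt
  obtain ⟨a', E, hE, ho⟩ := Nat.exists_eq_pow_mul_and_not_dvd (orderOf_pos g).ne' p hp.ne_one
  set G := suMat g with hG
  have hGo : G ^ (p ^ a' * E) = 1 := by
    rw [hG, ← suMat_pow, ← ho, pow_orderOf_eq_one]; rfl
  set σ := uAdj τ (ι := Fin n) with hσ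
  have hσG : σ G * G = 1 := uAdj_mul_self hτ g
  have hσG' : G * σ G = 1 := mul_eq_one_comm.mp hσG
  set s := G ^ p ^ a' with hs
  have hσpow : ∀ k, σ (G ^ k) = σ G ^ k := by
    intro k
    induction k with
    | zero => simp [hσ, uAdj_one]
    | succ k ih => rw [pow_succ, hσ, uAdj_mul, ← hσ, ih, ← pow_succ']
  have hσs : σ s * s = 1 := by
    rw [hs, hσpow, ← (show Commute (σ G) G from hσG.trans hσG'.symm).mul_pow, hσG, one_pow]
  have hsE : s ^ E = 1 := by rw [hs, ← pow_mul]; exact hGo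
  have hfin : ∀ c : F, s ^ singerM n q = c • 1 →
      orderOf (QuotientGroup.mk g : Cfsg.PSU n F q) ∣ p ^ T * singerM n q := by
    intro c hc
    set o := orderOf (QuotientGroup.mk g : Cfsg.PSU n F q)
    have h1 : o ∣ p ^ a' * singerM n q := orderOf_dvd_of_pow_eq_one
      (mk_pow_eq_one_of_scalar (c := c) (by rw [pow_mul]; exact hc))
    have h2 : o ∣ p ^ T * E := orderOf_dvd_of_pow_eq_one
      (mk_pow_eq_one_of_scalar (c := 1) (by
        rw [one_smul]; exact pow_pTimes _ hGo (by simpa using hT)))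
    refine (Nat.dvd_gcd h2 h1).trans ((Nat.gcd_mul_left_dvd_mul_gcd _ _ _).trans ?_)
    exact mul_dvd_mul (Nat.gcd_dvd_left _ _) ((Nat.Coprime.dvd_of_dvd_mul_left
      (Nat.Coprime.coprime_dvd_left (Nat.gcd_dvd_left _ _)
        ((((Fact.out : p.Prime).coprime_iff_not_dvd).mpr hE).symm.pow_right a'))
      (Nat.gcd_dvd_right _ _)))
  have hEpos : 0 < E := Nat.pos_of_ne_zero (fun h => hE (h ▸ dvd_zero p))
  rcases CfsgLib.SympOrders.adjoint_trichotomy σ τ (uAdj_add τ) (uAdj_mul τ) (uAdj_smul_one τ)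
      (uAdj_uAdj τ hττ) s hE hsE hσs with
    ⟨P, h1, h2, h3, h4⟩ | ⟨f, hfm, hfi, hfE, hfs, hrec⟩ | ⟨f, P, hfm, hfi, hfE, hidem, hσe, hfe⟩
  · left
    refine ⟨_, h1, h2, h3, h4, ?_⟩
    have h : aeval s P = aeval G (P.comp (X ^ p ^ a')) := by
      rw [aeval_comp, map_pow, aeval_X]
    rw [h]
    conv_rhs => rw [← aeval_X (R := F) G]
    exact (Commute.all _ _).map (aeval G)
  · -- irreducible minimal polynomial
    right
    haveI : Fact (Irreducible f) := ⟨hfi⟩
    obtain ⟨hodd, hxd⟩ := root_of_selfConjugate hτ hττ hF hfi hfE hEpos hq hrec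
    have hmin := minpoly_eq_of_irreducible s hfm hfi hfs
    obtain ⟨m, hm⟩ := eq_pow_of_minpoly_irreducible s (hmin ▸ hfi)
    rw [hmin] at hm
    have hmd : f.natDegree * m = n := by
      have := congrArg natDegree hm
      rw [charpoly_natDegree_eq_dim, natDegree_pow, Fintype.card_fin] at this
      rw [this, mul_comm]
    have hνm : ((-1 : F) ^ f.natDegree * f.coeff 0) ^ m = 1 := by
      have h1 := Matrix.det_eq_sign_charpoly_coeff s
      rw [show s.det = 1 by rw [hs, det_pow, hG, suMat, Matrix.SpecialLinearGroup.det_coe, one_pow],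
        Fintype.card_fin, hm, coeff_zero_eq_eval_zero, eval_pow, ← coeff_zero_eq_eval_zero,
        ← hmd, pow_mul, ← mul_pow] at h1
      exact h1.symm
    have hxE : AdjoinRoot.root f ^ E = 1 := by
      have := AdjoinRoot.mk_eq_zero.mpr hfE
      rw [map_sub, map_pow, AdjoinRoot.mk_X, map_one, sub_eq_zero] at this
      exact this
    have hxN := root_pow_geomN hfm hfi m
    rw [hνm, map_one, hF, mul_comm m] at hxN
    have hx := pow_geomU_of_one_orbit hq hq1 ha hp hodd hxd hxN hE hxE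
    rw [hmd] at hx
    obtain ⟨c, hc, -⟩ := exists_scalar_of_pow_geomU hF hx
    refine hfin c ?_
    have h0 := CfsgLib.SympOrders.pow_sub_mul_eq_zero s 1 f (by rw [hfs, zero_mul]) _ c hc
    rwa [mul_one, sub_eq_zero] at h0
  · -- a pair of conjugate components
    right
    haveI : Fact (Irreducible f) := ⟨hfi⟩
    set e := aeval s P with he
    have hces : Commute e s := by
      have := (Commute.all P X).map (aeval (R := F) s)
      rwa [aeval_X] at this
    have hrk : e.rank + (1 - e).rank = n := by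
      have h1 := LinearMap.finrank_range_add_finrank_ker (Matrix.toLin' e)
      rw [Module.finrank_fin_fun] at h1
      have h2 : LinearMap.ker (Matrix.toLin' e) = LinearMap.range (Matrix.toLin' (1 - e)) := by
        ext v
        constructor
        · intro hv
          refine ⟨v, ?_⟩
          rw [map_sub, LinearMap.sub_apply, Matrix.toLin'_one, LinearMap.id_apply,
            LinearMap.mem_ker.mp hv, sub_zero]
        · rintro ⟨w, rfl⟩
          rw [LinearMap.mem_ker, ← LinearMap.comp_apply, ← Matrix.toLin'_mul, mul_sub, mul_one,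
            hidem.eq, sub_self, map_zero, LinearMap.zero_apply]
      rw [h2] at h1
      exact h1
    have hrk2 : (1 - e).rank = e.rank := by
      rw [← hσe, hσ, uAdj, Matrix.rank_transpose, rank_map_ringHom hττ]
    set h := e.rank with hh
    have hn2 : n = 2 * h := by omega
    obtain ⟨k, hk, hdet1⟩ := det_part s e hfm hfi hidem hces hfe (by omega)
    set δ := (s * e + (1 - e)).det with hδ
    -- the other half is the inverse conjugate
    have hσs' : Commute e (σ s) := by
      have h1 : σ ((1 - e) * s) = σ (s * (1 - e)) := by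
        rw [((Commute.one_left s).sub_left hces).eq]
      rw [hσ, uAdj_mul, uAdj_mul, ← hσ] at h1
      have h2 : σ (1 - e) = e := by rw [← hσe, hσ, uAdj_uAdj τ hττ]
      rw [h2] at h1
      exact h1.symm
    have hσ1e : σ (1 - e) = e := by rw [← hσe, hσ, uAdj_uAdj τ hττ]
    have hA2 : σ (s * e + (1 - e)) * (e + s * (1 - e)) = 1 := by
      rw [hσ, uAdj_add, uAdj_mul, ← hσ, hσe, hσ1e]
      have e1 : (1 - e) * σ s * e = 0 := by
        rw [mul_assoc, hσs'.symm.eq, ← mul_assoc, sub_mul, one_mul, hidem.eq, sub_self, zero_mul]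
      have e2 : e * (s * (1 - e)) = 0 := by
        rw [← mul_assoc, hces.eq, mul_assoc, mul_sub, mul_one, hidem.eq, sub_self, mul_zero]
      have e3 : (1 - e) * σ s * (s * (1 - e)) = 1 - e := by
        rw [mul_assoc, ← mul_assoc (σ s), hσs, one_mul, hidem.one_sub.eq]
      rw [add_mul, mul_add, mul_add, e1, e2, e3, hidem.eq]
      abel
    have hA12 : (s * e + (1 - e)) * (e + s * (1 - e)) = s := by
      have e1 : (1 - e) * e = 0 := by rw [sub_mul, one_mul, hidem.eq, sub_self]
      have e2 : e * (s * (1 - e)) = 0 := by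
        rw [← mul_assoc, hces.eq, mul_assoc, mul_sub, mul_one, hidem.eq, sub_self, mul_zero]
      rw [add_mul, mul_add, mul_add, mul_assoc, hidem.eq, mul_assoc s e, e2, e1, ← mul_assoc (1 - e),
        (((Commute.one_left s).sub_left hces)).eq, mul_assoc, hidem.one_sub.eq, mul_zero, add_zero,
        zero_add, ← mul_add, add_sub_cancel, mul_one]
    have hδq : δ ^ (q - 1) = 1 := by
      have h1 := congrArg det hA2
      have h2 := congrArg det hA12
      rw [det_mul, det_one, hσ, det_uAdj, ← hδ, hτ] at h1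
      rw [det_mul, ← hδ, show s.det = 1 by rw [hs, det_pow, hG, suMat, Matrix.SpecialLinearGroup.det_coe, one_pow]] at h2
      have hne : δ ≠ 0 := fun h0 => by rw [h0, zero_mul] at h2; exact zero_ne_one h2
      have hne' : (e + s * (1 - e)).det ≠ 0 := fun h0 => by rw [h0, mul_zero] at h2; exact zero_ne_one h2
      have h3 : δ ^ q = δ := mul_right_cancel₀ hne' (h1.trans h2.symm)
      rw [← Nat.sub_add_cancel hq1.le, pow_succ] at h3
      exact mul_right_cancel₀ hne (h3.trans (one_mul δ).symm)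
    have hx : AdjoinRoot.root f ^ geomU n q = 1 := by
      rw [hn2, geomU_even_eq hq1, show h = k * f.natDegree from hk, ← hF, pow_mul, root_pow_geomN hfm hfi, ← map_pow, ← hdet1,
        hδq, map_one]
    obtain ⟨c, hc, hcn⟩ := exists_scalar_of_pow_geomU hF hx
    refine hfin c ?_
    have h0 := CfsgLib.SympOrders.pow_sub_mul_eq_zero s e f hfe _ c hc
    set S := s ^ singerM n q with hS
    have hσS : σ S * S = 1 := by
      rw [hS, hs, ← pow_mul, hσpow, ← (show Commute (σ G) G from hσG.trans hσG'.symm).mul_pow, hσG,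
        one_pow]
    have h1 : (1 - e) * (σ S - τ c • 1) = 0 := by
      have h1' := congrArg σ h0
      rw [hσ, uAdj_mul, sub_eq_add_neg (b := c • (1 : Matrix (Fin n) (Fin n) F)), ← neg_smul, uAdj_add,
        uAdj_smul_one, map_neg, neg_smul, ← sub_eq_add_neg, ← hσ, hσe] at h1'
      rw [h1']
      simp [hσ, uAdj]
    have key : (σ S - τ c • 1) * (c • S) = c • 1 - S := by
      rw [mul_smul_comm, sub_mul, hσS, smul_mul_assoc, one_mul, smul_sub, smul_smul, hτ,
        ← pow_succ', hcn, one_smul]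
    have h2 : (1 - e) * (S - c • 1) = 0 := by
      rw [← neg_sub (c • (1 : Matrix (Fin n) (Fin n) F)) S, ← key, mul_neg, ← mul_assoc, h1, zero_mul, neg_zero]
    have h3 : e * (S - c • 1) = 0 := by
      rw [← h0]
      exact ((hces.pow_right _).sub_right ((Commute.one_right e).smul_right c)).eq
    have := congrArg₂ (· + ·) h3 h2
    rwa [← add_mul, add_sub_cancel, one_mul, add_zero, sub_eq_zero] at this

end CfsgLib.UnitOrders
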