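import Mathlib
import Cfsg.Agent.UnitOrders.Basic
import Cfsg.Agent.Forms.Diagonal

/-!
# Elements of prescribed order in `PSU (n, q)`

Singer cycles, regular unipotent elements, and elements of prime order `r ∣ q + 1` commuting with
elements that preserve an orthogonal decomposition.
-/

set_option autoImplicit false

open Polynomial Matrix

namespace CfsgLib.UnitOrders

variable {F : Type*} [Field F] [Fintype F] {n q : ℕ} {τ : F →+* F}

/-- Any non-degenerate hermitian form can be moved to the standard one. -/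
theorem exists_transport (hne : τ ≠ RingHom.id F) (hττ : ∀ x, τ (τ x) = x) {ι : Type*} [Fintype ι]
    [DecidableEq ι] (hι : Fintype.card ι = n) (H : Matrix ι ι F) (hH : uAdj τ H = H) (hdet : H.det ≠ 0) :
    ∃ φ : Matrix ι ι F ≃ₐ[F] Matrix (Fin n) (Fin n) F, (∀ X, (φ X).det = X.det) ∧
      (∀ X, uAdj τ X * H * X = H → uAdj τ (φ X) * φ X = 1) ∧
      (∀ X, uAdj τ X * H = H * X → uAdj τ (φ X) = φ X) := by
  classical
  let f : (ι → F) → (ι → F) → F := fun x y => (τ ∘ x) ⬝ᵥ (H *ᵥ y)
  let B : (ι → F) →ₛₗ[τ] (ι → F) →ₗ[F] F := LinearMap.mk₂'ₛₗ τ (RingHom.id F) f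
    (fun x x' y => by
      have : τ ∘ (x + x') = τ ∘ x + τ ∘ x' := by ext i; simp
      simp [f, this, add_dotProduct])
    (fun c x y => by
      have : τ ∘ (c • x) = τ c • (τ ∘ x) := by ext i; simp
      simp [f, this])
    (fun x y y' => by simp [f, mulVec_add, dotProduct_add])
    (fun c x y => by simp [f, mulVec_smul])
  have hBe : ∀ x y, B x y = (τ ∘ x) ⬝ᵥ (H *ᵥ y) := fun x y => rfl
  have hHm : H.map τ = Hᵀ := by
    have := congrArg Matrix.transpose hH
    simpa [uAdj] using this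
  have hS : B.IsSymm := ⟨fun x y => by
    rw [hBe, hBe, RingHom.map_dotProduct]
    have h1 : τ ∘ (τ ∘ x) = x := funext fun i => hττ _
    have h2 : τ ∘ (H *ᵥ y) = Hᵀ *ᵥ (τ ∘ y) := by
      rw [← hHm]; exact funext fun i => RingHom.map_mulVec τ H y i
    rw [h1, h2, dotProduct_mulVec, vecMul_transpose, dotProduct_comm]⟩
  have hB : ∀ x, (∀ y, B x y = 0) → x = 0 := fun x hx => by
    have h1 : (τ ∘ x) ᵥ* H = 0 := by
      funext j
      have := hx (Pi.single j 1)
      rw [hBe, dotProduct_mulVec, dotProduct_single, mul_one] at this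
      exact this
    have h2 : τ ∘ x = 0 := by
      by_contra h
      exact hdet (Matrix.exists_vecMul_eq_zero_iff.mp ⟨_, h, h1⟩)
    funext i
    exact τ.injective (by simpa using congrFun h2 i)
  obtain ⟨b, hb⟩ := CfsgLib.Forms.exists_orthonormal_basis_hermitian hne hττ B hS hB
    (n := n) (by rw [Module.finrank_pi, hι])
  let e : Fin n ≃ ι := (Fintype.equivFinOfCardEq hι).symm
  -- change of basis
  let P : Matrix (Fin n) (Fin n) F := Matrix.of fun i j => b j (e i)
  let H' : Matrix (Fin n) (Fin n) F := Matrix.reindexAlgEquiv F F e.symm H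
  have hP : uAdj τ P * H' * P = 1 := by
    ext i j
    rw [one_apply, ← hb i j, hBe, mul_assoc]
    simp only [Matrix.mul_apply, uAdj, transpose_apply, map_apply, P, of_apply, H',
      Matrix.reindexAlgEquiv_apply, Matrix.reindex_apply, submatrix_apply, Equiv.symm_symm, dotProduct,
      mulVec, Function.comp_apply]
    rw [← e.sum_comp]
    refine Finset.sum_congr rfl fun k _ => ?_
    rw [← e.sum_comp (fun l => H (e k) l * b j l)]
  have hPdet : IsUnit P.det := by
    refine isUnit_iff_ne_zero.mpr fun h0 => ?_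
    have := congrArg det hP
    rw [det_mul, h0, mul_zero, det_one] at this
    exact zero_ne_one this
  let Q := P⁻¹
  have hQP : Q * P = 1 := nonsing_inv_mul _ hPdet
  have hPQ : P * Q = 1 := mul_nonsing_inv _ hPdet
  let ψ : Matrix (Fin n) (Fin n) F ≃ₐ[F] Matrix (Fin n) (Fin n) F :=
    { toFun := fun X => Q * X * P
      invFun := fun X => P * X * Q
      left_inv := fun X => by
        show P * (Q * X * P) * Q = X
        rw [← mul_assoc P, ← mul_assoc P, hPQ, one_mul, mul_assoc, hPQ, mul_one]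
      right_inv := fun X => by
        show Q * (P * X * Q) * P = X
        rw [← mul_assoc Q, ← mul_assoc Q, hQP, one_mul, mul_assoc, hQP, mul_one]
      map_mul' := fun X Y => by
        show Q * (X * Y) * P = Q * X * P * (Q * Y * P)
        simp only [mul_assoc]
        rw [← mul_assoc P Q, hPQ, one_mul]
      map_add' := fun X Y => by simp [mul_add, add_mul]
      commutes' := fun r => by
        show Q * algebraMap F _ r * P = _
        rw [← Algebra.commutes, mul_assoc, hQP, mul_one] }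
  have hψ : ∀ X, ψ X = Q * X * P := fun X => rfl
  let R := Matrix.reindexAlgEquiv F F (n := Fin n) (m := ι) e.symm
  have hR : ∀ X, uAdj τ (R X) = R (uAdj τ X) := fun X => rfl
  have hQ' : uAdj τ Q * uAdj τ P = 1 := by rw [← uAdj_mul, hPQ, uAdj_one]
  have hPH : uAdj τ P * H' = Q := by
    calc uAdj τ P * H' = uAdj τ P * H' * (P * Q) := by rw [hPQ, mul_one]
      _ = Q := by rw [← mul_assoc, hP, one_mul]
  refine ⟨R.trans ψ, fun X => ?_, fun X hX => ?_, fun X hX => ?_⟩
  · show (Q * R X * P).det = _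
    rw [det_mul, det_mul, mul_comm, ← mul_assoc, ← det_mul, hPQ, det_one, one_mul]
    exact det_reindex_self _ _
  · show uAdj τ (Q * R X * P) * (Q * R X * P) = 1
    have hX' : uAdj τ (R X) * H' * R X = H' := by
      rw [hR]
      show R (uAdj τ X) * R H * R X = R H
      rw [← map_mul, ← map_mul, hX]
    have hH' : uAdj τ Q * Q = H' := by
      calc uAdj τ Q * Q = uAdj τ Q * (uAdj τ P * H') := by rw [hPH]
        _ = H' := by rw [← mul_assoc, hQ', one_mul]
    rw [uAdj_mul, uAdj_mul]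
    calc uAdj τ P * (uAdj τ (R X) * uAdj τ Q) * (Q * R X * P)
        = uAdj τ P * (uAdj τ (R X) * (uAdj τ Q * Q) * R X) * P := by simp only [mul_assoc]
      _ = 1 := by rw [hH', hX', hP]
  · show uAdj τ (Q * R X * P) = Q * R X * P
    have hX' : uAdj τ (R X) * H' = H' * R X := by
      rw [hR]
      show R (uAdj τ X) * R H = R H * R X
      rw [← map_mul, ← map_mul, hX]
    have hHP : H' * P = uAdj τ Q := by
      calc H' * P = uAdj τ Q * uAdj τ P * (H' * P) := by rw [hQ', one_mul]
        _ = uAdj τ Q := by rw [mul_assoc, ← mul_assoc (uAdj τ P), hP, mul_one]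
    rw [uAdj_mul, uAdj_mul, ← hHP, ← mul_assoc (uAdj τ (R X)), hX', ← hPH]
    simp only [mul_assoc]

omit [Fintype F] in
/-- Permutation matrices are unitary. -/
theorem uAdj_permMatrix {ι : Type*} [Fintype ι] [DecidableEq ι] (σ : Equiv.Perm ι) :
    uAdj τ (σ.permMatrix F) * σ.permMatrix F = 1 := by
  have h : (σ.permMatrix F).map τ = σ.permMatrix F := by
    ext i j
    simp [Equiv.Perm.permMatrix, PEquiv.toMatrix_apply]
  rw [uAdj, h, transpose_permMatrix, ← permMatrix_mul, mul_inv_cancel, permMatrix_one]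

/-- The centre of `SU (n, q)`, `n ≥ 3`, consists of scalar matrices. -/
theorem scalar_of_mem_center (hτ : ∀ x, τ x = x ^ q) (hF : Fintype.card F = q ^ 2) (hn : 3 ≤ n)
    {g : Cfsg.SU n F q} (hg : g ∈ Subgroup.center (Cfsg.SU n F q)) :
    ∃ c : F, suMat g = c • 1 := by
  classical
  set A := suMat g with hA
  have hcomm : ∀ (M : Matrix (Fin n) (Fin n) F), M.det = 1 → uAdj τ M * M = 1 → M * A = A * M :=
    fun M h1 h2 => by
      have := congrArg suMat (Subgroup.mem_center_iff.mp hg (suMk hτ M h1 h2))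
      rw [suMat_mul, suMat_mul] at this
      exact this
  have hq1 : 2 ≤ q := by
    have h1 : 1 < q ^ 2 := hF ▸ Fintype.one_lt_card
    by_contra h
    have : q ^ 2 ≤ 1 ^ 2 := Nat.pow_le_pow_left (by omega) 2
    omega
  obtain ⟨ω, hω, hω1⟩ : ∃ ω : F, ω ^ (q + 1) = 1 ∧ ω ≠ 1 := by
    obtain ⟨y, hy⟩ := IsCyclic.exists_ofOrder_eq_natCard (α := Fˣ)
    rw [Nat.card_units, Nat.card_eq_fintype_card, hF] at hy
    have h2 : q ^ 2 - 1 = (q - 1) * (q + 1) := by rw [mul_comm, ← Nat.sq_sub_sq, one_pow]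
    refine ⟨((y ^ (q - 1) : Fˣ) : F), ?_, ?_⟩
    · rw [← Units.val_pow_eq_pow_val, ← pow_mul, ← h2, ← hy, pow_orderOf_eq_one, Units.val_one]
    · intro h
      have h3 := Nat.le_of_dvd (by omega) (orderOf_dvd_of_pow_eq_one (Units.ext h : y ^ (q - 1) = 1))
      rw [hy, h2] at h3
      have : (q - 1) * 3 ≤ (q - 1) * (q + 1) := Nat.mul_le_mul_left _ (by omega)
      omega
  have hωu : τ ω * ω = 1 := by rw [hτ, ← pow_succ, hω]
  have third : ∀ k l : Fin n, ∃ m, m ≠ k ∧ m ≠ l := fun k l => by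
    have : (Finset.univ \ {k, l} : Finset (Fin n)).Nonempty := by
      rw [← Finset.card_pos, Finset.card_sdiff]
      have : (({k, l} : Finset (Fin n)) ∩ Finset.univ).card ≤ 2 := by
        rw [Finset.inter_univ]; exact Finset.card_le_two
      rw [Finset.card_univ, Fintype.card_fin]
      omega
    obtain ⟨m, hm⟩ := this
    simp at hm
    exact ⟨m, hm.1, hm.2⟩
  have hoff : ∀ k l, k ≠ l → A k l = 0 := fun k l hkl => by
    obtain ⟨m, hmk, hml⟩ := third k l
    let D : Fin n → F := fun i => if i = k then ω else if i = m then τ ω else 1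
    have hD1 : (diagonal D).det = 1 := by
      rw [det_diagonal, ← Finset.mul_prod_erase _ _ (Finset.mem_univ k),
        ← Finset.mul_prod_erase _ _ (Finset.mem_erase.mpr ⟨hmk, Finset.mem_univ m⟩)]
      rw [Finset.prod_eq_one, mul_one]
      · simp [D, hmk, mul_comm ω, hωu]
      · intro i hi
        simp only [Finset.mem_erase] at hi
        simp [D, hi.1, hi.2.1]
    have hD2 : uAdj τ (diagonal D) * diagonal D = 1 := by
      rw [uAdj, diagonal_map (map_zero τ), diagonal_transpose, diagonal_mul_diagonal, ← diagonal_one]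
      congr 1
      funext i
      simp only [D, Function.comp_apply]
      have : τ (τ ω) * τ ω = 1 := by rw [← map_mul, hωu, map_one]
      split_ifs <;> simp [hωu, this]
    have := congrFun (congrFun (hcomm _ hD1 hD2) k) l
    rw [diagonal_mul, mul_diagonal] at this
    simp only [D, if_true, if_neg hkl.symm, if_neg hml.symm, mul_one] at this
    by_contra h
    exact hω1 (mul_right_cancel₀ h (by rw [this, one_mul]))
  have hdiag : ∀ k l, A k k = A l l := fun k l => by
    rcases eq_or_ne k l with rfl | hkl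
    · rfl
    obtain ⟨m, hmk, hml⟩ := third k l
    set π : Equiv.Perm (Fin n) := Equiv.swap k l * Equiv.swap l m with hπ
    have hπk : π k = l := by simp [hπ, Equiv.swap_apply_of_ne_of_ne hkl hmk.symm]
    have hdet : (π.permMatrix F).det = 1 := by
      rw [det_permutation, hπ, map_mul, Equiv.Perm.sign_swap hkl, Equiv.Perm.sign_swap hml.symm]
      simp
    have := congrFun (congrFun (hcomm _ hdet (uAdj_permMatrix π)) k) l
    rw [Matrix.mul_apply, Matrix.mul_apply, Finset.sum_eq_single l, Finset.sum_eq_single k] at this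
    · simp [Equiv.Perm.permMatrix, PEquiv.toMatrix_apply, hπk] at this
      exact this.symm
    · intro j _ hj; rw [hoff _ _ hj.symm, zero_mul]
    · simp
    · intro j _ hj; rw [hoff _ _ hj, mul_zero]
    · simp
  refine ⟨A ⟨0, by omega⟩ ⟨0, by omega⟩, ?_⟩
  ext i j
  rcases eq_or_ne i j with rfl | h
  · simp [hdiag i ⟨0, by omega⟩]
  · simp [h, hoff i j h]

theorem mk_pow_eq_one_iff (hτ : ∀ x, τ x = x ^ q) (hF : Fintype.card F = q ^ 2) (hn : 3 ≤ n)
    (g : Cfsg.SU n F q) (k : ℕ) :
    (QuotientGroup.mk g : Cfsg.PSU n F q) ^ k = 1 ↔ ∃ c : F, suMat g ^ k = c • 1 := by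
  refine ⟨fun h => ?_, fun ⟨c, hc⟩ => mk_pow_eq_one_of_scalar hc⟩
  rw [← QuotientGroup.mk_pow, QuotientGroup.eq_one_iff] at h
  obtain ⟨c, hc⟩ := scalar_of_mem_center hτ hF hn h
  exact ⟨c, by rw [← suMat_pow, hc]⟩

/-- An element of `PSU` from an isometry of any non-degenerate hermitian form. -/
theorem exists_element (hτ : ∀ x, τ x = x ^ q) (hττ : ∀ x, τ (τ x) = x) (hne : τ ≠ RingHom.id F)
    (hF : Fintype.card F = q ^ 2) (hn : 3 ≤ n) {ι : Type*} [Fintype ι] [DecidableEq ι]
    (hι : Fintype.card ι = n) (H X : Matrix ι ι F) (hH : uAdj τ H = H) (hdet : H.det ≠ 0)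
    (hX1 : X.det = 1) (hX : uAdj τ X * H * X = H) :
    ∃ g : Cfsg.SU n F q,
      (∀ o, (QuotientGroup.mk g : Cfsg.PSU n F q) ^ o = 1 →
        ∃ c : F, X ^ o = c • 1 ∧ c ^ (q + 1) = 1) ∧
      (∀ o, X ^ o = 1 → g ^ o = 1) ∧
      ∀ e : Matrix ι ι F, IsIdempotentElem e → uAdj τ e * H = H * e → e ≠ 0 → e ≠ 1 → Commute e X →
        ∃ e' : Matrix (Fin n) (Fin n) F, IsIdempotentElem e' ∧ uAdj τ e' = e' ∧ e' ≠ 0 ∧ e' ≠ 1 ∧
          Commute e' (suMat g) := by
  obtain ⟨φ, hφ1, hφ2, hφ3⟩ := exists_transport hne hττ hι H hH hdet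
  let g : Cfsg.SU n F q := suMk hτ (φ X) (by rw [hφ1, hX1]) (hφ2 X hX)
  have hg : ∀ o, suMat (g ^ o) = φ (X ^ o) := fun o => by rw [suMat_pow, map_pow]; rfl
  refine ⟨g, fun o ho => ?_, fun o ho => suMat_injective (by rw [hg, ho, map_one]; rfl),
    fun e he1 he2 he3 he4 he5 => ?_⟩
  · rw [← QuotientGroup.mk_pow, QuotientGroup.eq_one_iff] at ho
    obtain ⟨c, hc⟩ := scalar_of_mem_center hτ hF hn ho
    have h1 : X ^ o = c • 1 := φ.injective (by rw [← hg, hc, map_smul, map_one])
    refine ⟨c, h1, ?_⟩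
    have h2 := uAdj_mul_self hτ (g ^ o)
    change uAdj τ (suMat (g ^ o)) * suMat (g ^ o) = 1 at h2
    rw [hc, uAdj_smul_one, smul_mul_smul_comm, one_mul] at h2
    have h3 := congrFun (congrFun h2 ⟨0, by omega⟩) ⟨0, by omega⟩
    simpa [hτ, ← pow_succ] using h3
  · refine ⟨φ e, he1.map φ, hφ3 e he2, fun h => he3 (φ.injective (by rw [h, map_zero])),
      fun h => he4 (φ.injective (by rw [h, map_one])), ?_⟩
    exact he5.map φ

/-- From a self-adjoint idempotent commuting with `g` one gets an element of order divisible by that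
of the image of `g` and by `r`. -/
theorem exists_lcm_prime (hτ : ∀ x, τ x = x ^ q) (hF : Fintype.card F = q ^ 2) (hn : 3 ≤ n) {r : ℕ}
    (hr : r.Prime) (hrq : r ∣ q + 1) (hrn : ¬ r ∣ n)
    (g : Cfsg.SU n F q) {e : Matrix (Fin n) (Fin n) F} (he : IsIdempotentElem e) (hσe : uAdj τ e = e)
    (he0 : e ≠ 0) (he1 : e ≠ 1) (hcomm : Commute e (suMat g)) :
    ∃ x : Cfsg.PSU n F q,
      orderOf (QuotientGroup.mk g : Cfsg.PSU n F q) ∣ orderOf x ∧ r ∣ orderOf x := by
  classical
  haveI : Fact r.Prime := ⟨hr⟩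
  haveI : Nonempty (Fin n) := ⟨⟨0, by omega⟩⟩
  obtain ⟨w, hw⟩ : ∃ w : Fˣ, orderOf w = r :=
    exists_prime_orderOf_dvd_card' (G := Fˣ) r (by
      rw [Nat.card_units, Nat.card_eq_fintype_card, hF]
      exact hrq.trans ⟨q - 1, by rw [← Nat.sq_sub_sq, one_pow]⟩)
  set ω : F := (w : F)
  have hωr : ω ^ r = 1 := by
    rw [← Units.val_pow_eq_pow_val, ← hw, pow_orderOf_eq_one, Units.val_one]
  have hω1 : ω ≠ 1 := fun h => hr.ne_one (by
    rw [← hw, show w = 1 from Units.ext h, orderOf_one])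
  let D : F → F → Matrix (Fin n) (Fin n) F := fun a b => a • e + b • (1 - e)
  have he' : (1 - e) * (1 - e) = 1 - e := he.one_sub
  have hee : e * (1 - e) = 0 := by rw [mul_sub, mul_one, he.eq, sub_self]
  have hee' : (1 - e) * e = 0 := by rw [sub_mul, one_mul, he.eq, sub_self]
  have hD : ∀ a b a' b', D a b * D a' b' = D (a * a') (b * b') := by
    intro a b a' b'
    simp only [D, add_mul, mul_add, smul_mul_smul_comm, he.eq, he', hee, hee', smul_zero, add_zero,
      zero_add]
  have hD1 : D 1 1 = 1 := by simp [D]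
  have hDadj : ∀ a b, uAdj τ (D a b) = D (τ a) (τ b) := by
    intro a b
    have h1 : uAdj τ (1 - e) = 1 - e := by
      have := uAdj_add τ (1 - e) e
      rw [sub_add_cancel, uAdj_one, hσe] at this
      rw [eq_sub_iff_add_eq]
      exact this.symm
    simp only [D, uAdj_add, uAdj_smul, hσe, h1]
  have hDpow : ∀ a b k, D a b ^ k = D (a ^ k) (b ^ k) := by
    intro a b k
    induction k with
    | zero => simp [hD1]
    | succ k ih => rw [pow_succ, ih, hD, ← pow_succ, ← pow_succ]
  set δ : F := (D ω 1).det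
  have hδ : δ ^ r = 1 := by rw [← det_pow, hDpow, one_pow, hωr, hD1, det_one]
  obtain ⟨μ, hμr, hμ⟩ : ∃ μ : F, μ ^ r = 1 ∧ μ ^ n * δ = 1 := by
    obtain ⟨m, -, hm⟩ := Nat.exists_mul_mod_eq_one_of_coprime
      (((hr.coprime_iff_not_dvd).mpr hrn).symm) hr.one_lt
    refine ⟨δ ^ (m * (r - 1)), by rw [← pow_mul, mul_comm, pow_mul, hδ, one_pow], ?_⟩
    have h1 : δ ^ (n * m) = δ := by
      rw [← Nat.div_add_mod (n * m) r, hm, pow_add, pow_mul, hδ, one_pow, one_mul, pow_one]
    rw [← pow_mul, mul_comm (m * (r - 1)) n, ← mul_assoc, pow_mul, h1, ← pow_succ,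
      Nat.sub_add_cancel hr.one_le, hδ]
  have hnorm : ∀ t : F, t ^ r = 1 → τ t * t = 1 := fun t ht => by
    obtain ⟨c, hc⟩ := hrq
    rw [hτ, ← pow_succ, hc, pow_mul, ht, one_pow]
  let c : Cfsg.SU n F q := suMk hτ (μ • D ω 1)
    (by rw [det_smul, Fintype.card_fin]; exact hμ)
    (by rw [uAdj_smul, hDadj, smul_mul_smul_comm, hnorm μ hμr, hD, hnorm ω hωr, map_one, one_mul,
      hD1, one_smul])
  have hcr : (QuotientGroup.mk c : Cfsg.PSU n F q) ^ r = 1 := by
    refine mk_pow_eq_one_of_scalar (c := 1) ?_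
    show (μ • D ω 1) ^ r = _
    rw [_root_.smul_pow, hμr, hDpow, hωr, one_pow, hD1]
  have hc1 : (QuotientGroup.mk c : Cfsg.PSU n F q) ≠ 1 := by
    intro h
    rw [← pow_one (QuotientGroup.mk c : Cfsg.PSU n F q), mk_pow_eq_one_iff hτ hF hn] at h
    obtain ⟨t, ht⟩ := h
    rw [pow_one] at ht
    change μ • D ω 1 = t • 1 at ht
    have hμ0 : μ ≠ 0 := fun h0 => by simp [h0, zero_pow hr.ne_zero] at hμr
    have h1 := congrArg (· * e) ht
    have h2 := congrArg (· * (1 - e)) ht
    simp only [D, add_mul, smul_mul_assoc, he.eq, he', hee, hee', smul_zero, add_zero, zero_add,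
      one_mul, smul_smul, mul_one] at h1 h2
    have e1 : μ * ω = t := by
      by_contra hne
      exact he0 ((smul_eq_zero.mp (by rw [sub_smul, h1, sub_self] : (μ * ω - t) • e = 0)).resolve_left
        (sub_ne_zero.mpr hne))
    have e2 : μ = t := by
      by_contra hne
      exact he1 (sub_eq_zero.mp ((smul_eq_zero.mp
        (by rw [sub_smul, h2, sub_self] : (μ - t) • (1 - e) = 0)).resolve_left
        (sub_ne_zero.mpr hne))).symm
    exact hω1 (mul_left_cancel₀ hμ0 (by rw [e1, mul_one, e2]))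
  have hord := orderOf_eq_prime hcr hc1
  have hgc : Commute g c := by
    apply suMat_injective
    rw [suMat_mul, suMat_mul]
    show suMat g * (μ • D ω 1) = μ • D ω 1 * suMat g
    exact (((hcomm.symm.smul_right ω).add_right
      ((((Commute.one_right _).sub_right hcomm.symm)).smul_right (1 : F))).smul_right μ).eq
  obtain ⟨k, -, hk⟩ := (hgc.map (QuotientGroup.mk' (Subgroup.center (Cfsg.SU n F q)))).exists_orderOf_eq_lcm
  refine ⟨_, hk ▸ Nat.dvd_lcm_left _ _, ?_⟩
  rw [hk]
  exact hord ▸ Nat.dvd_lcm_right _ _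

end CfsgLib.UnitOrders
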