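import Mathlib
import Cfsg.Agent.UnitOrders.Witness

/-!
# Singer cycles and regular unipotent elements of `PSU (n, q)`
-/

set_option autoImplicit false

open Polynomial Matrix

namespace CfsgLib.UnitOrders

open CfsgLib.LinearOrders (geomN shiftMat shiftMat_pow)

variable {F : Type*} [Field F] [Fintype F] {n q p a : ℕ} {τ : F →+* F} [Fact p.Prime] [CharP F p]

omit [Field F] [Fintype F] [Fact p.Prime] in
theorem geomU_mul_eq_odd {n q : ℕ} (hn : Odd n) : geomU n q * (q + 1) = q ^ n + 1 := by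
  rw [geomU, if_neg (Nat.not_even_iff_odd.mpr hn), Nat.div_mul_cancel (succ_dvd_pow_add_one q hn)]

/-- Norm-one scalars raised to `singerM`: if `z` has order `geomU` and `z ^ o` is a norm one scalar
then `singerM ∣ o`. -/
theorem singerM_dvd_of_scalar {G : Type*} [Monoid G] {z : G} {n q o : ℕ} (hz : orderOf z = geomU n q)
    (h : z ^ (o * (q + 1)) = 1) : singerM n q ∣ o := by
  have hdvd : geomU n q ∣ o * (q + 1) := hz ▸ orderOf_dvd_of_pow_eq_one h
  rw [singerM]
  have hdpos : 0 < Nat.gcd (geomU n q) (q + 1) := Nat.gcd_pos_of_pos_right _ (by omega)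
  have h3 : geomU n q / Nat.gcd (geomU n q) (q + 1) ∣ o * ((q + 1) / Nat.gcd (geomU n q) (q + 1)) := by
    rw [← Nat.mul_div_assoc _ (Nat.gcd_dvd_right _ _)]
    exact Nat.div_dvd_div (Nat.gcd_dvd_left _ _) hdvd
  exact (Nat.coprime_div_gcd_div_gcd hdpos).dvd_of_dvd_mul_right h3

theorem exists_singer_odd (hτ : ∀ x, τ x = x ^ q) (hττ : ∀ x, τ (τ x) = x) (hne : τ ≠ RingHom.id F)
    (hF : Fintype.card F = q ^ 2) (hq : q = p ^ a) (hq1 : 1 < q) (hn : 3 ≤ n) (hodd : Odd n) :
    ∃ g : Cfsg.SU n F q, singerM n q ∣ orderOf (QuotientGroup.mk g : Cfsg.PSU n F q) := by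
  classical
  haveI : NeZero n := ⟨by omega⟩
  let K := FiniteField.Extension F p n
  haveI : Finite K := Module.finite_of_finite F
  haveI : CharP K p := charP_of_injective_algebraMap (algebraMap F K).injective p
  have hcardK : Nat.card K = q ^ (2 * n) := by
    rw [FiniteField.natCard_extension, Nat.card_eq_fintype_card, hF, ← pow_mul]
  let b : Module.Basis (Fin n) F K :=
    Module.finBasisOfFinrankEq F K (FiniteField.finrank_extension F p n)
  let cj : K →+* K := iterateFrobenius K p (a * n)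
  have hcj : ∀ y, cj y = y ^ q ^ n := fun y => by rw [hq, ← pow_mul]; rfl
  have hcjcj : ∀ y, cj (cj y) = y := fun y => by
    haveI : Fintype K := Fintype.ofFinite K
    rw [hcj, hcj, ← pow_mul, ← pow_add, ← two_mul, ← hcardK, Nat.card_eq_fintype_card, FiniteField.pow_card]
  have hcjF : ∀ x : F, cj (algebraMap F K x) = algebraMap F K (τ x) := fun x => by
    obtain ⟨l, rfl⟩ := hodd
    rw [hcj, ← map_pow, hτ, pow_succ, pow_mul q 2, pow_mul, ← hF, FiniteField.pow_card_pow]
  have htr : ∀ y, τ (Algebra.trace F K y) = Algebra.trace F K (cj y) := fun y => by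
    apply (algebraMap F K).injective
    rw [← hcjF, FiniteField.algebraMap_trace_eq_sum_pow, FiniteField.algebraMap_trace_eq_sum_pow,
      map_sum]
    simp only [map_pow]
  let H : Matrix (Fin n) (Fin n) F := Matrix.of fun i j => Algebra.trace F K (cj (b i) * b j)
  have hH : uAdj τ H = H := by
    ext i j
    simp only [uAdj, transpose_apply, map_apply, H, of_apply, htr, map_mul, hcjcj]
    rw [mul_comm]
  have hlin : ∀ v : Fin n → F, ∀ i, (H *ᵥ v) i = Algebra.trace F K (cj (b i) * ∑ j, v j • b j) := by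
    intro v i
    rw [Finset.mul_sum, map_sum]
    simp only [mul_smul_comm, map_smul, smul_eq_mul]
    simp [H, mulVec, dotProduct, mul_comm]
  have hdet : H.det ≠ 0 := fun h0 => by
    obtain ⟨v, hv, hHv⟩ := Matrix.exists_mulVec_eq_zero_iff.mpr h0
    set w := ∑ j, v j • b j with hw
    have hall : ∀ y, Algebra.trace F K (cj y * w) = 0 := by
      intro y
      rw [← b.sum_repr y, map_sum, Finset.sum_mul, map_sum]
      refine Finset.sum_eq_zero fun i _ => ?_
      rw [Algebra.smul_def, map_mul cj, hcjF, mul_assoc, ← Algebra.smul_def, map_smul, ← hlin, hHv]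
      simp
    have hw0 : w ≠ 0 := fun h => hv (by
      funext j
      exact Fintype.linearIndependent_iff.mp b.linearIndependent v h j)
    obtain ⟨y, hy⟩ := Algebra.trace_surjective F K 1
    have := hall (cj (y / w))
    rw [hcjcj, div_mul_cancel₀ _ hw0, hy] at this
    exact one_ne_zero this
  -- the generator
  obtain ⟨y, hy⟩ := IsCyclic.exists_ofOrder_eq_natCard (α := Kˣ)
  rw [Nat.card_units, hcardK] at hy
  set N := geomU n q with hN
  have hN1 : N * (q + 1) = q ^ n + 1 := geomU_mul_eq_odd hodd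
  have hsplit : q ^ (2 * n) - 1 = N * ((q ^ n - 1) * (q + 1)) := by
    rw [mul_comm 2, pow_mul, mul_left_comm, hN1, mul_comm, ← Nat.sq_sub_sq, one_pow]
  have hqn : 1 < q ^ n := Nat.one_lt_pow (by omega) hq1
  set z := y ^ ((q ^ n - 1) * (q + 1)) with hz
  have hM0 : 0 < (q ^ n - 1) * (q + 1) := Nat.mul_pos (by omega) (by omega)
  have hzord : orderOf z = N := by
    rw [hz, orderOf_pow' _ hM0.ne', hy, hsplit, Nat.gcd_mul_left_left, Nat.mul_div_cancel _ hM0]
  have hzn : cj (z : K) * z = 1 := by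
    rw [hcj, ← pow_succ, ← hN1, pow_mul, ← Units.val_pow_eq_pow_val, ← hzord, pow_orderOf_eq_one,
      Units.val_one, one_pow]
  let X : Matrix (Fin n) (Fin n) F := Algebra.leftMulMatrix b (z : K)
  have hXb : ∀ j, ∑ k, X k j • b k = (z : K) * b j := fun j => by
    simp only [X, Algebra.leftMulMatrix_eq_repr_mul, b.sum_repr]
  have hX : uAdj τ X * H * X = H := by
    rw [mul_assoc]
    ext i l
    have h1 : ∀ k, (H * X) k l = Algebra.trace F K (cj (b k) * ((z : K) * b l)) := fun k => by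
      rw [← hXb l, Finset.mul_sum, map_sum]
      simp [Matrix.mul_apply, H, mul_comm]
    rw [Matrix.mul_apply]
    simp only [uAdj, transpose_apply, map_apply, h1]
    have h2 : ∀ k, τ (X k i) * Algebra.trace F K (cj (b k) * ((z : K) * b l)) =
        Algebra.trace F K (cj (X k i • b k) * ((z : K) * b l)) := fun k => by
      simp only [Algebra.smul_def, map_mul, hcjF, mul_assoc]
      rw [← Algebra.smul_def, map_smul, smul_eq_mul]
    simp only [h2, ← map_sum, ← Finset.sum_mul, hXb, H, of_apply]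
    rw [map_mul cj, mul_mul_mul_comm, hzn, one_mul]
  have hdet1 : X.det = 1 := by
    show (Algebra.leftMulMatrix b (z : K)).det = 1
    rw [← Algebra.norm_eq_matrix_det b]
    apply (algebraMap F K).injective
    rw [map_one, FiniteField.algebraMap_norm_eq_pow]
    have hG : N ∣ (Nat.card K - 1) / (Nat.card F - 1) := by
      rw [hcardK, Nat.card_eq_fintype_card, hF]
      have h1 : q - 1 ∣ q ^ n - 1 := Nat.sub_one_dvd_pow_sub_one q n
      obtain ⟨c, hc⟩ := h1
      refine ⟨c * (q + 1) / (q + 1), ?_⟩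
      rw [hsplit, Nat.mul_div_cancel _ (by omega : 0 < q + 1), hc,
        show q ^ 2 - 1 = (q - 1) * (q + 1) by rw [mul_comm, ← Nat.sq_sub_sq, one_pow],
        show N * ((q - 1) * c * (q + 1)) = N * c * ((q - 1) * (q + 1)) by ring,
        Nat.mul_div_cancel _ (Nat.mul_pos (by omega) (by omega))]
    obtain ⟨c, hc⟩ := hG
    rw [hc, pow_mul, ← Units.val_pow_eq_pow_val, ← hzord, pow_orderOf_eq_one, Units.val_one, one_pow]
  obtain ⟨g, hg, -, -⟩ := exists_element hτ hττ hne hF hn (Fintype.card_fin n) H X hH hdet hdet1 hX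
  refine ⟨g, ?_⟩
  obtain ⟨c, hc, hc1⟩ := hg _ (pow_orderOf_eq_one (QuotientGroup.mk g : Cfsg.PSU n F q))
  refine singerM_dvd_of_scalar hzord (Units.ext ?_)
  rw [Units.val_pow_eq_pow_val, pow_mul]
  have hzc : (z : K) ^ orderOf (QuotientGroup.mk g : Cfsg.PSU n F q) = algebraMap F K c := by
    apply Algebra.leftMulMatrix_injective b
    rw [map_pow, AlgHom.commutes, Algebra.algebraMap_eq_smul_one]
    exact hc
  rw [hzc, ← map_pow, hc1, map_one, Units.val_one]

theorem exists_singer_even (hτ : ∀ x, τ x = x ^ q) (hττ : ∀ x, τ (τ x) = x) (hne : τ ≠ RingHom.id F)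
    (hF : Fintype.card F = q ^ 2) (_hq : q = p ^ a) (hq1 : 1 < q) (hn : 3 ≤ n) (heven : Even n) :
    ∃ g : Cfsg.SU n F q, singerM n q ∣ orderOf (QuotientGroup.mk g : Cfsg.PSU n F q) := by
  classical
  obtain ⟨h, hh⟩ := heven
  haveI : NeZero h := ⟨by omega⟩
  let K := FiniteField.Extension F p h
  haveI : Finite K := Module.finite_of_finite F
  let b : Module.Basis (Fin h) F K :=
    Module.finBasisOfFinrankEq F K (FiniteField.finrank_extension F p h)
  obtain ⟨y, hy⟩ := IsCyclic.exists_ofOrder_eq_natCard (α := Kˣ)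
  rw [Nat.card_units, FiniteField.natCard_extension, Nat.card_eq_fintype_card, hF, ← pow_mul,
    show 2 * h = n by omega] at hy
  set z := y ^ (q + 1) with hz
  have hzord : orderOf z = geomU n q := by
    rw [hz, orderOf_pow' _ (by omega), hy, geomU, if_pos ⟨h, hh⟩,
      Nat.gcd_eq_right (succ_dvd_pow_sub_one q ⟨h, hh⟩)]
  set X0 : Matrix (Fin h) (Fin h) F := Algebra.leftMulMatrix b (z : K) with hX0
  set δ := X0.det with hδdef
  have hδ : δ ^ q = δ ∧ δ ≠ 0 := by
    set N0 := Algebra.norm F (y : K)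
    have hN0 : N0 ≠ 0 := (Algebra.norm_ne_zero_iff).mpr y.ne_zero
    have h1 : δ = N0 ^ (q + 1) := by
      rw [hδdef, hX0, ← Algebra.norm_eq_matrix_det b, hz, Units.val_pow_eq_pow_val, map_pow]
    refine ⟨?_, h1 ▸ pow_ne_zero _ hN0⟩
    have h2 := FiniteField.pow_card N0
    rw [hF] at h2
    rw [h1, ← pow_mul, add_mul, one_mul, pow_add, ← sq, h2, pow_succ, mul_comm]
  set Y : Matrix (Fin h) (Fin h) F := (uAdj τ X0)⁻¹ with hY
  have hu : IsUnit (uAdj τ X0).det := by
    rw [det_uAdj]; exact isUnit_iff_ne_zero.mpr (by simpa using hδ.2)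
  let X : Matrix (Fin h ⊕ Fin h) (Fin h ⊕ Fin h) F := fromBlocks X0 0 0 Y
  let H : Matrix (Fin h ⊕ Fin h) (Fin h ⊕ Fin h) F := fromBlocks 0 1 1 0
  have hub : ∀ A B C D : Matrix (Fin h) (Fin h) F, uAdj τ (fromBlocks A B C D) =
      fromBlocks (uAdj τ A) (uAdj τ C) (uAdj τ B) (uAdj τ D) := fun A B C D => by
    simp [uAdj, fromBlocks_map, fromBlocks_transpose]
  have hz0 : uAdj τ (0 : Matrix (Fin h) (Fin h) F) = 0 := by simp [uAdj]
  have hH : uAdj τ H = H := by simp only [H, hub, hz0, uAdj_one]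
  have hdet : H.det ≠ 0 := fun h0 => by
    have : H * H = 1 := by simp [H, fromBlocks_multiply, fromBlocks_one]
    have := congrArg det this
    rw [det_mul, h0, mul_zero, det_one] at this
    exact zero_ne_one this
  have hY1 : uAdj τ X0 * Y = 1 := mul_nonsing_inv _ hu
  have hY2 : uAdj τ Y * X0 = 1 := by
    have := congrArg (uAdj τ) hY1
    rwa [uAdj_mul, uAdj_uAdj τ hττ, uAdj_one] at this
  have hX : uAdj τ X * H * X = H := by
    simp only [X, H, hub, hz0, fromBlocks_multiply, Matrix.mul_zero, Matrix.zero_mul, add_zero,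
      zero_add, mul_one, hY1, hY2]
  have hdet1 : X.det = 1 := by
    show (fromBlocks X0 0 0 Y).det = 1
    rw [det_fromBlocks_zero₂₁, hY, det_nonsing_inv, Ring.inverse_eq_inv', det_uAdj, hτ, ← hδdef,
      hδ.1, mul_inv_cancel₀ hδ.2]
  obtain ⟨g, hg, -, -⟩ := exists_element hτ hττ hne hF hn
    (by rw [Fintype.card_sum, Fintype.card_fin]; omega) H X hH hdet hdet1 hX
  refine ⟨g, ?_⟩
  obtain ⟨c, hc, hc1⟩ := hg _ (pow_orderOf_eq_one (QuotientGroup.mk g : Cfsg.PSU n F q))
  refine singerM_dvd_of_scalar hzord (Units.ext ?_)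
  rw [Units.val_pow_eq_pow_val, pow_mul]
  have hzc : (z : K) ^ orderOf (QuotientGroup.mk g : Cfsg.PSU n F q) = algebraMap F K c := by
    apply Algebra.leftMulMatrix_injective b
    rw [map_pow, AlgHom.commutes, Algebra.algebraMap_eq_smul_one]
    rw [show X = fromBlocks X0 0 0 Y from rfl, fromBlocks_diagonal_pow, ← fromBlocks_one,
      fromBlocks_smul, fromBlocks_inj] at hc
    exact hc.1
  rw [hzc, ← map_pow, hc1, map_one, Units.val_one]

section Unipotent

variable {m : ℕ}

/-- The regular unipotent element on `Fin m` preserving the antidiagonal form. -/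
theorem exists_unipotent_matrix (hττ : ∀ x, τ (τ x) = x) (hne : τ ≠ RingHom.id F) :
    ∃ J U : Matrix (Fin m) (Fin m) F, uAdj τ J = J ∧ J.det ≠ 0 ∧ U.det = 1 ∧ uAdj τ U * J * U = J ∧
      (U - 1) ^ m = 0 ∧ ∀ k, k < m → (U - 1) ^ k ≠ 0 := by
  classical
  obtain ⟨t, ht⟩ : ∃ t, τ t ≠ t := by
    by_contra h
    exact hne (RingHom.ext fun x => not_not.1 fun hx => h ⟨x, hx⟩)
  set N := shiftMat F m m with hN
  let J : Matrix (Fin m) (Fin m) F := (Fin.revPerm : Equiv.Perm (Fin m)).permMatrix F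
  have hJmap : J.map τ = J := by
    ext i j
    simp [J, Equiv.Perm.permMatrix, PEquiv.toMatrix_apply]
  have hJe : ∀ i j : Fin m, J i j = if i.rev = j then 1 else 0 := fun i j => by
    simp [J, Equiv.Perm.permMatrix, PEquiv.toMatrix_apply]
  have hJ : uAdj τ J = J := by
    rw [uAdj, hJmap]
    ext i j
    rw [transpose_apply, hJe, hJe]
    exact if_congr (by rw [Fin.rev_eq_iff, eq_comm]) rfl rfl
  have hJdet : J.det ≠ 0 := by
    rw [det_permutation]
    exact ((Equiv.Perm.sign (Fin.revPerm : Equiv.Perm (Fin m))).isUnit.map (Int.castRingHom F)).ne_zero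
  have hNmap : N.map τ = N := by
    ext i j
    simp only [hN, shiftMat, map_apply, of_apply]
    split_ifs <;> simp
  have hNJ : uAdj τ N * J = J * N := by
    rw [uAdj, hNmap]
    ext i j
    rw [Matrix.mul_apply, Matrix.mul_apply, Finset.sum_eq_single j.rev, Finset.sum_eq_single i.rev]
    · simp only [transpose_apply, hJe, Fin.rev_rev, if_true, mul_one, one_mul, hN, shiftMat, of_apply,
        Fin.val_rev]
      refine if_congr ?_ rfl rfl
      omega
    · intro k _ hk; rw [hJe, if_neg (Ne.symm hk), zero_mul]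
    · simp
    · intro k _ hk; rw [hJe, if_neg (fun h => hk (by rw [← h, Fin.rev_rev])), mul_zero]
    · simp
  have hdetN : ∀ c : F, (1 + c • N).det = 1 := fun c => by
    rw [det_of_upperTriangular]
    · refine Finset.prod_eq_one fun i _ => ?_
      simp [hN, shiftMat]
    · intro i j hij
      have hne : i ≠ j := (ne_of_gt hij)
      simp only [Matrix.add_apply, Matrix.smul_apply, one_apply_ne hne, hN, shiftMat, of_apply, zero_add]
      rw [if_neg, smul_zero]
      intro h
      have : (j : ℕ) < i := hij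
      omega
  set A := 1 + t • N with hA
  set B := 1 + τ t • N with hB
  have hAJ : uAdj τ A * J = J * B := by
    rw [hA, hB, uAdj_add, uAdj_one, uAdj_smul, add_mul, smul_mul_assoc, hNJ, mul_add, mul_smul_comm,
      one_mul, mul_one]
  have hBJ : uAdj τ B * J = J * A := by
    rw [hA, hB, uAdj_add, uAdj_one, uAdj_smul, add_mul, smul_mul_assoc, hNJ, mul_add, mul_smul_comm,
      one_mul, mul_one, hττ]
  have hBu : IsUnit B.det := by rw [hB, hdetN]; exact isUnit_one
  set C := B⁻¹ with hC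
  have hBC : B * C = 1 := mul_nonsing_inv _ hBu
  have hCB : C * B = 1 := nonsing_inv_mul _ hBu
  have hAB : A * B = B * A := by
    simp only [hA, hB, add_mul, mul_add, one_mul, mul_one, smul_mul_smul_comm, mul_comm t]
    abel
  set U := A * C with hU
  have hUdet : U.det = 1 := by
    rw [hU, det_mul, hA, hdetN, one_mul, hC, det_nonsing_inv, hB, hdetN, Ring.inverse_one]
  have hUJ : uAdj τ U * J * U = J := by
    have hσC : uAdj τ C * uAdj τ B = 1 := by rw [← uAdj_mul, hBC, uAdj_one]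
    have hBAC : B * (A * C) = A := by rw [← mul_assoc, ← hAB, mul_assoc, hBC, mul_one]
    calc uAdj τ U * J * U = uAdj τ C * (uAdj τ A * J) * (A * C) := by
          rw [hU, uAdj_mul]; simp only [mul_assoc]
      _ = uAdj τ C * (J * (B * (A * C))) := by rw [hAJ]; simp only [mul_assoc]
      _ = J := by rw [hBAC, ← hBJ, ← mul_assoc, hσC, one_mul]
  have hU1 : U - 1 = (t - τ t) • N * C := by
    have : A - B = (t - τ t) • N := by rw [hA, hB, sub_smul]; abel
    rw [← this, sub_mul, hBC]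
  have hNC : Commute ((t - τ t) • N) C := by
    have : Commute N B := (Commute.one_right N).add_right ((Commute.refl N).smul_right _)
    have h2 : Commute N C := by
      show N * C = C * N
      calc N * C = C * B * N * C := by rw [hCB, one_mul]
        _ = C * N := by rw [mul_assoc C, ← this.eq, mul_assoc, mul_assoc, hBC, mul_one]
    exact h2.smul_left _
  refine ⟨J, U, hJ, hJdet, hUdet, hUJ, ?_, fun k hk => ?_⟩
  · rw [hU1, hNC.mul_pow, _root_.smul_pow]
    rcases Nat.eq_zero_or_pos m with rfl | hm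
    · ext i; exact i.elim0
    have : N ^ m = 0 := by
      ext i j
      rw [hN, shiftMat_pow m m m hm, if_neg (by omega)]
      rfl
    rw [this, smul_zero, zero_mul]
  · intro h0
    rw [hU1, hNC.mul_pow, _root_.smul_pow] at h0
    have h1 : ((t - τ t) ^ k) • N ^ k = 0 := by
      have := congrArg (· * B ^ k) h0
      simp only [zero_mul, mul_assoc] at this
      rwa [← (show Commute C B from hCB.trans hBC.symm).mul_pow, hCB, one_pow, mul_one] at this
    rw [smul_eq_zero] at h1
    rcases h1 with h1 | h1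
    · exact pow_ne_zero k (sub_ne_zero.mpr ht.symm) h1
    rcases Nat.eq_zero_or_pos k with rfl | hk0
    · haveI : Nonempty (Fin m) := ⟨⟨0, hk⟩⟩
      simp at h1
    have := congrFun (congrFun h1 ⟨0, by omega⟩) ⟨k, hk⟩
    rw [hN, shiftMat_pow m m k hk0, if_pos (by simp [hk])] at this
    exact one_ne_zero this

theorem pow_ne_one_of_nilpotency {ι : Type*} [Fintype ι] [DecidableEq ι] [Nonempty ι] {T : ℕ}
    (U : Matrix ι ι F) (hm : (U - 1) ^ m = 0) (hk : (U - 1) ^ p ^ T ≠ 0) (c : F) :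
    U ^ p ^ T ≠ c • 1 := by
  intro hc
  have h1 : (U - 1) ^ p ^ T = (c - 1) • 1 := by
    rw [sub_pow_char_pow_of_commute (p := p) (h := Commute.one_right _), hc, one_pow, sub_smul, one_smul]
  have h2 : ((c - 1) • (1 : Matrix ι ι F)) ^ m = 0 := by
    rw [← h1, ← pow_mul, mul_comm, pow_mul, hm, zero_pow (pow_ne_zero _ (Fact.out : p.Prime).ne_zero)]
  rw [_root_.smul_pow, one_pow, smul_eq_zero] at h2
  rcases h2 with h2 | h2
  · apply hk
    rw [h1, (pow_eq_zero_iff' .. |>.mp h2).1, zero_smul]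
  · exact absurd h2 one_ne_zero

omit [Fact p.Prime] [CharP F p] in
theorem pT_dvd_orderOf {p T : ℕ} (hp : p.Prime) {G : Type*} [Group G] {x : G} {r : ℕ}
    (hr : x ^ p ^ r = 1) (h : 1 ≤ T → x ^ p ^ (T - 1) ≠ 1) : p ^ T ∣ orderOf x := by
  obtain ⟨i, -, hi⟩ := (Nat.dvd_prime_pow hp).mp (orderOf_dvd_of_pow_eq_one hr)
  rw [hi]
  refine pow_dvd_pow _ ?_
  by_contra hlt
  exact h (by omega) (orderOf_dvd_iff_pow_eq_one.mp (hi ▸ pow_dvd_pow _ (by omega)))

/-- A regular unipotent element has order divisible by `p ^ T`. -/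
theorem exists_unipotent (hτ : ∀ x, τ x = x ^ q) (hττ : ∀ x, τ (τ x) = x) (hne : τ ≠ RingHom.id F)
    (hF : Fintype.card F = q ^ 2) (hn : 3 ≤ n) {T : ℕ} (hT : 1 ≤ T → p ^ (T - 1) < n) :
    ∃ g : Cfsg.SU n F q, p ^ T ∣ orderOf (QuotientGroup.mk g : Cfsg.PSU n F q) := by
  classical
  haveI : Nonempty (Fin n) := ⟨⟨0, by omega⟩⟩
  have hp : p.Prime := Fact.out
  obtain ⟨J, U, hJ, hJdet, hUdet, hUJ, hUm, hUk⟩ := exists_unipotent_matrix (m := n) hττ hne
  obtain ⟨g, hg, hg1, -⟩ := exists_element hτ hττ hne hF hn (Fintype.card_fin n) J U hJ hJdet hUdet hUJ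
  refine ⟨g, pT_dvd_orderOf hp (r := n) ?_ fun hT1 h => ?_⟩
  · rw [← QuotientGroup.mk_pow, hg1, QuotientGroup.mk_one]
    have : (U - 1) ^ p ^ n = 0 := by
      rw [← Nat.sub_add_cancel (Nat.lt_pow_self hp.one_lt).le, pow_add, hUm, mul_zero]
    rwa [sub_pow_char_pow_of_commute (p := p) (h := Commute.one_right _), one_pow, sub_eq_zero] at this
  · obtain ⟨c, hc, -⟩ := hg _ h
    exact pow_ne_one_of_nilpotency U hUm (hUk _ (hT hT1)) c hc

/-- A unipotent element of a smaller unitary group, commuting with a self-adjoint idempotent. -/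
theorem exists_unipotent_idempotent (hτ : ∀ x, τ x = x ^ q) (hττ : ∀ x, τ (τ x) = x)
    (hne : τ ≠ RingHom.id F) (hF : Fintype.card F = q ^ 2) (hn : 3 ≤ n) {T : ℕ}
    (hT : 1 ≤ T → p ^ (T - 1) < n - 1) :
    ∃ (g : Cfsg.SU n F q) (e : Matrix (Fin n) (Fin n) F),
      p ^ T ∣ orderOf (QuotientGroup.mk g : Cfsg.PSU n F q) ∧ IsIdempotentElem e ∧ uAdj τ e = e ∧
        e ≠ 0 ∧ e ≠ 1 ∧ Commute e (suMat g) := by
  classical
  have hp : p.Prime := Fact.out
  obtain ⟨J, U, hJ, hJdet, hUdet, hUJ, hUm, hUk⟩ := exists_unipotent_matrix (m := n - 1) hττ hne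
  let H : Matrix (Fin (n - 1) ⊕ Unit) (Fin (n - 1) ⊕ Unit) F := fromBlocks J 0 0 1
  let X : Matrix (Fin (n - 1) ⊕ Unit) (Fin (n - 1) ⊕ Unit) F := fromBlocks U 0 0 1
  let e : Matrix (Fin (n - 1) ⊕ Unit) (Fin (n - 1) ⊕ Unit) F := fromBlocks 0 0 0 1
  haveI : Nonempty (Fin (n - 1)) := ⟨⟨0, by omega⟩⟩
  have hub : ∀ A D, uAdj τ (fromBlocks A 0 0 D : Matrix (Fin (n - 1) ⊕ Unit) (Fin (n - 1) ⊕ Unit) F) =
      fromBlocks (uAdj τ A) 0 0 (uAdj τ D) := fun A D => by
    simp [uAdj, fromBlocks_map, fromBlocks_transpose]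
  have hH : uAdj τ H = H := by simp only [H, hub, hJ, uAdj_one]
  have hdet : H.det ≠ 0 := by simpa [H] using hJdet
  have hX1 : X.det = 1 := by simp [X, hUdet]
  have hX : uAdj τ X * H * X = H := by
    simp only [X, H, hub, fromBlocks_multiply, Matrix.mul_zero, Matrix.zero_mul, add_zero, zero_add,
      hUJ, uAdj_one, mul_one]
  obtain ⟨g, hg, hg1, hge⟩ := exists_element hτ hττ hne hF hn
    (by rw [Fintype.card_sum, Fintype.card_fin, Fintype.card_unit]; omega) H X hH hdet hX1 hX
  have hz0 : uAdj τ (0 : Matrix (Fin (n - 1)) (Fin (n - 1)) F) = 0 := by simp [uAdj]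
  obtain ⟨e', h1, h2, h3, h4, h5⟩ := hge e
    (by simp [IsIdempotentElem, e, fromBlocks_multiply])
    (by simp [e, H, hub, hz0, fromBlocks_multiply, uAdj_one])
    (fun h => by
      have := congrFun (congrFun h (Sum.inr ())) (Sum.inr ())
      simp [e] at this)
    (fun h => by
      have := congrFun (congrFun h (Sum.inl ⟨0, by omega⟩)) (Sum.inl ⟨0, by omega⟩)
      simp [e] at this)
    (by simp [e, X, Commute, SemiconjBy, fromBlocks_multiply])
  refine ⟨g, e', pT_dvd_orderOf hp (r := n) ?_ fun hT1 h => ?_, h1, h2, h3, h4, h5⟩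
  · rw [← QuotientGroup.mk_pow, hg1, QuotientGroup.mk_one]
    have : (U - 1) ^ p ^ n = 0 := by
      rw [← Nat.sub_add_cancel ((Nat.sub_le n 1).trans (Nat.lt_pow_self hp.one_lt).le), pow_add, hUm,
        mul_zero]
    rw [sub_pow_char_pow_of_commute (p := p) (h := Commute.one_right _), one_pow, sub_eq_zero] at this
    rw [show X = fromBlocks U 0 0 1 from rfl, fromBlocks_diagonal_pow, this, one_pow, fromBlocks_one]
  · obtain ⟨c, hc, -⟩ := hg _ h
    rw [show X = fromBlocks U 0 0 1 from rfl, fromBlocks_diagonal_pow, ← fromBlocks_one, fromBlocks_smul,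
      fromBlocks_inj] at hc
    exact pow_ne_one_of_nilpotency U hUm (hUk _ (hT hT1)) c hc.1

end Unipotent

end CfsgLib.UnitOrders
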