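import Mathlib
import Cfsg.Agent.UnitOrders.Elements

/-!
# Orders of elements of `PSU (3, q)`, `q` odd

The eigenvalues of a unitary matrix are permuted by `z ↦ (z⁻¹) ^ q`; in degree three this leaves
only a Singer cycle, three rational eigenvalues of two possible shapes, or a repeated eigenvalue of
norm one.
-/

set_option autoImplicit false

open Polynomial Matrix

namespace CfsgLib.UnitOrders

variable {F : Type*} [Field F] [Fintype F] {q p a : ℕ} {τ : F →+* F} [Fact p.Prime] [CharP F p]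

omit [Fintype F] in
/-- The eigenvalues of a unitary matrix are permuted by `z ↦ (z⁻¹) ^ q`. -/
theorem charpoly_root_inv_pow (hτ : ∀ x, τ x = x ^ q) (hq : q = p ^ a) {ι : Type*} [Fintype ι]
    [DecidableEq ι] (G : Matrix ι ι F) (hG : uAdj τ G * G = 1) (hdet : G.det = 1)
    {K : Type*} [Field K] [Algebra F K] {z : K} (hz : aeval z G.charpoly = 0) :
    z ≠ 0 ∧ aeval (z⁻¹ ^ q) G.charpoly = 0 := by
  haveI : CharP K p := charP_of_injective_algebraMap (algebraMap F K).injective p
  set f := algebraMap F K with hf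
  have hq0 : q ≠ 0 := hq ▸ pow_ne_zero _ (Fact.out : p.Prime).ne_zero
  let φ : K →+* K := iterateFrobenius K p a
  have hφ : ∀ y, φ y = y ^ q := fun y => by simp [φ, iterateFrobenius_def, hq]
  have hev : ∀ y : K, aeval y G.charpoly = (scalar ι y - G.map f).det := fun y => by
    rw [← eval_charpoly, Matrix.charpoly_map, aeval_def, eval₂_eq_eval_map]
  rw [hev] at hz
  set A := G.map f with hA
  have hdetA : A.det = 1 := by
    rw [hA, ← RingHom.mapMatrix_apply, ← RingHom.map_det, hdet, map_one]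
  have hz0 : z ≠ 0 := by
    rintro rfl
    rw [map_zero, zero_sub, det_neg, hdetA, mul_one] at hz
    exact pow_ne_zero _ (neg_ne_zero.mpr one_ne_zero) hz
  refine ⟨hz0, ?_⟩
  have hB : (A.map φ)ᵀ * A = 1 := by
    have h1 : (uAdj τ G).map f = (A.map φ)ᵀ := by
      ext i j
      simp [uAdj, hA, hτ, hφ]
    rw [← h1, hA, ← Matrix.map_mul, hG, Matrix.map_one _ (map_zero f) (map_one f)]
  have h2 : (scalar ι (z ^ q) - (A.map φ)ᵀ).det = 0 := by
    have h3 := congrArg φ hz
    rw [RingHom.map_det, map_zero, map_sub, RingHom.mapMatrix_apply] at h3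
    rw [← det_transpose, transpose_sub, transpose_transpose, ← h3, RingHom.mapMatrix_apply]
    congr 1
    congr 1
    ext i j
    rcases eq_or_ne i j with rfl | h
    · simp [Matrix.scalar_apply, hφ]
    · simp [h, h.symm, Matrix.scalar_apply, hφ, zero_pow hq0]
  rw [hev]
  have hzq : z ^ q ≠ 0 := pow_ne_zero _ hz0
  have h4 : ((scalar ι (z ^ q) - (A.map φ)ᵀ) * A).det = 0 := by rw [det_mul, h2, zero_mul]
  rw [sub_mul, hB] at h4
  have h5 : scalar ι (z ^ q) * A - 1 = (-(z ^ q)) • (scalar ι (z⁻¹ ^ q) - A) := by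
    rw [scalar_apply, scalar_apply, ← smul_one_eq_diagonal, ← smul_one_eq_diagonal, smul_mul_assoc,
      one_mul, smul_sub, smul_smul, neg_mul, ← mul_pow, mul_inv_cancel₀ hz0, one_pow, neg_smul,
      neg_smul, one_smul]
    abel
  rw [h5, det_smul] at h4
  exact (mul_eq_zero.mp h4).resolve_left (pow_ne_zero _ (neg_ne_zero.mpr hzq))

omit [CharP F p] [Fact p.Prime] in
/-- The roots of an irreducible polynomial over a finite field are the Frobenius conjugates of
one of them. -/
theorem exists_eq_pow_of_root {f : F[X]} [hf : Fact (Irreducible f)] {z : AdjoinRoot f}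
    (hz : aeval z f = 0) :
    ∃ i, i < f.natDegree ∧ z = AdjoinRoot.root f ^ (Fintype.card F) ^ i := by
  let φ : AdjoinRoot f →ₐ[F] AdjoinRoot f := AdjoinRoot.liftAlgHom f (Algebra.ofId F _) z
    (by rw [aeval_def] at hz; exact hz)
  haveI : Finite (AdjoinRoot f) := Nat.finite_of_card_ne_zero (by
    rw [CfsgLib.LinearOrders.card_adjoinRoot hf.out.ne_zero]; exact pow_ne_zero _ Fintype.card_ne_zero)
  let φe : AdjoinRoot f ≃ₐ[F] AdjoinRoot f := AlgEquiv.ofBijective φ
    ⟨φ.injective, Finite.injective_iff_surjective.mp φ.injective⟩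
  obtain ⟨i, hi⟩ := (FiniteField.bijective_frobeniusAlgEquivOfAlgebraic_pow F (AdjoinRoot f)).2 φe
  have hfin : Module.finrank F (AdjoinRoot f) = f.natDegree := by
    rw [(AdjoinRoot.powerBasis hf.out.ne_zero).finrank, AdjoinRoot.powerBasis_dim]
  refine ⟨i.val, hfin ▸ i.2, ?_⟩
  have hφx : φ (AdjoinRoot.root f) = z := AdjoinRoot.liftAlgHom_root _ _ _ _
  rw [← hφx]
  have := congrArg (fun e : AdjoinRoot f ≃ₐ[F] AdjoinRoot f => e (AdjoinRoot.root f)) hi
  simp [AlgEquiv.coe_pow, FiniteField.coe_frobeniusAlgEquivOfAlgebraic, pow_iterate, φe] at this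
  exact this.symm

omit [CharP F p] [Fact p.Prime] in
/-- A root of an irreducible polynomial of degree at least two is not fixed by the Frobenius map. -/
theorem root_pow_card_ne {f : F[X]} [hf : Fact (Irreducible f)] (hd : 2 ≤ f.natDegree) :
    AdjoinRoot.root f ^ Fintype.card F ≠ AdjoinRoot.root f := by
  intro h
  obtain ⟨c, hc⟩ := CfsgLib.LinearOrders.exists_algebraMap_eq (F := F) _ h
  have h0 : f.eval c = 0 := by
    apply (algebraMap F (AdjoinRoot f)).injective
    rw [map_zero, ← Polynomial.aeval_algebraMap_apply_eq_algebraMap_eval, hc, AdjoinRoot.aeval_eq,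
      AdjoinRoot.mk_self]
  have : f.natDegree = 1 := natDegree_eq_of_degree_eq_some (degree_eq_one_of_irreducible_of_root hf.out h0)
  omega

theorem gcd_three_dvd (q : ℕ) : Nat.gcd 3 (q + 1) ∣ q + 1 ∧ Nat.gcd 3 (q + 1) ∣ 3 :=
  ⟨Nat.gcd_dvd_right _ _, Nat.gcd_dvd_left _ _⟩

/-- The order of a Singer cycle of `PSU (3, q)`. -/
theorem singerM_three (hq1 : 1 < q) : singerM 3 q = (q ^ 2 - q + 1) / Nat.gcd 3 (q + 1) := by
  have h2 : q ≤ q ^ 2 := Nat.le_self_pow two_ne_zero q
  have hg : geomU 3 q = q ^ 2 - q + 1 := by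
    rw [geomU, if_neg (by decide)]
    refine Nat.div_eq_of_eq_mul_left (Nat.succ_pos q) ?_
    zify [h2]
    ring
  rw [singerM, hg]
  congr 1
  have : q ^ 2 - q + 1 = (q - 2) * (q + 1) + 3 := by
    have h3 : 2 ≤ q := hq1
    zify [h2, h3]
    ring
  rw [this, Nat.gcd_mul_right_add_left]

/-- The order of the image of an element of `SU (3, q)` in `PSU (3, q)`. -/
theorem three_cases (hτ : ∀ x, τ x = x ^ q) (hF : Fintype.card F = q ^ 2) (hq : q = p ^ a)
    (hq1 : 1 < q) (hp3 : 3 ≤ p) (g : Cfsg.SU 3 F q) :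
    orderOf (QuotientGroup.mk g : Cfsg.PSU 3 F q) ∣ q + 1 ∨
    orderOf (QuotientGroup.mk g : Cfsg.PSU 3 F q) ∣ p * ((q + 1) / Nat.gcd 3 (q + 1)) ∨
    orderOf (QuotientGroup.mk g : Cfsg.PSU 3 F q) ∣ (q ^ 2 - 1) / Nat.gcd 3 (q + 1) ∨
    orderOf (QuotientGroup.mk g : Cfsg.PSU 3 F q) ∣ singerM 3 q := by
  classical
  have hdvd : ∀ {k : ℕ} {c : F}, suMat g ^ k = c • 1 →
      orderOf (QuotientGroup.mk g : Cfsg.PSU 3 F q) ∣ k := fun h =>
    orderOf_dvd_of_pow_eq_one (mk_pow_eq_one_of_scalar h)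
  set G := suMat g with hG
  have hGu : uAdj τ G * G = 1 := uAdj_mul_self hτ g
  have hdet : G.det = 1 := Matrix.SpecialLinearGroup.det_coe _
  set f := G.charpoly with hf
  have hfm : f.Monic := G.charpoly_monic
  have hfd : f.natDegree = 3 := by rw [hf, charpoly_natDegree_eq_dim, Fintype.card_fin]
  -- polynomials killing `G`
  have hkill : ∀ {k : ℕ} {c : F}, f ∣ X ^ k - C c → G ^ k = c • 1 := by
    rintro k c ⟨h, hh⟩
    have h1 := congrArg (aeval G) hh
    rw [map_mul, hf, aeval_self_charpoly, zero_mul, map_sub, map_pow, aeval_X, aeval_C,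
      Algebra.algebraMap_eq_smul_one, sub_eq_zero] at h1
    exact h1
  by_cases hirr : Irreducible f
  · refine Or.inr (Or.inr (Or.inr ?_))
    haveI : Fact (Irreducible f) := ⟨hirr⟩
    haveI : CharP (AdjoinRoot f) p := charP_of_injective_algebraMap (algebraMap F _).injective p
    set r := AdjoinRoot.root f with hr
    have hrf : aeval r f = 0 := by rw [hr, AdjoinRoot.aeval_eq, AdjoinRoot.mk_self]
    obtain ⟨hr0, hr1⟩ := charpoly_root_inv_pow hτ hq G hGu hdet hrf
    obtain ⟨i, hi, hri⟩ := exists_eq_pow_of_root hr1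
    rw [← hr, hF, ← pow_mul] at hri
    have hne := root_pow_card_ne (f := f) (by omega)
    rw [← hr, hF] at hne
    have key : r ^ (q ^ (2 * i) + q) = 1 := by
      rw [pow_add, ← hri, ← mul_pow, inv_mul_cancel₀ hr0, one_pow]
    have hq10 : r ^ (q + 1) = 1 → False := fun h => hne (by
      rw [show q ^ 2 = (q + 1) * (q - 1) + 1 by zify [hq1.le]; ring, pow_add, pow_mul, h, one_pow,
        one_mul, pow_one])
    have hx : r ^ geomU 3 q = 1 := by
      have hnorm : r ^ (1 + q ^ 2 + q ^ 4) = 1 := by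
        have h := root_pow_geomN hfm hirr 1
        rw [one_mul, pow_one, hfd, CfsgLib.LinearOrders.geomN, Finset.sum_range_succ,
          Finset.sum_range_succ, Finset.sum_range_one, hF, pow_zero, pow_one, ← pow_mul] at h
        have hd1 : (-1 : F) ^ 3 * f.coeff 0 = 1 := by
          have := Matrix.det_eq_sign_charpoly_coeff G
          rw [hdet, Fintype.card_fin] at this
          exact this.symm
        rw [hd1, map_one] at h
        exact h
      have hcase : r ^ (q ^ 4 + q) = 1 := by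
        rw [hfd] at hi
        interval_cases i
        · exfalso
          refine hq10 ?_
          simpa [add_comm] using key
        · exfalso
          refine hq10 (iterateFrobenius_inj (AdjoinRoot f) p a ?_)
          simp only [iterateFrobenius_def, ← hq, one_pow]
          rw [← pow_mul, ← key]
          ring_nf
        · simpa using key
      have hg : geomU 3 q + (q ^ 4 + q) = 1 + q ^ 2 + q ^ 4 := by
        have h2 : q ≤ q ^ 2 := Nat.le_self_pow two_ne_zero q
        have : geomU 3 q = q ^ 2 - q + 1 := by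
          rw [geomU, if_neg (by decide)]
          refine Nat.div_eq_of_eq_mul_left (Nat.succ_pos q) ?_
          zify [h2]
          ring
        omega
      rw [← hg, pow_add, hcase, mul_one] at hnorm
      exact hnorm
    obtain ⟨c, hc, -⟩ := exists_scalar_of_pow_geomU hF hx
    refine hdvd (c := c) (hkill (AdjoinRoot.mk_eq_zero.mp ?_))
    rw [map_sub, map_pow, AdjoinRoot.mk_X, AdjoinRoot.mk_C, ← hr, hc, AdjoinRoot.algebraMap_eq,
      sub_self]
  · -- all eigenvalues are rational
    obtain ⟨x₀, hx₀⟩ : ∃ x, f.IsRoot x := by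
      rw [hfm.irreducible_iff_roots_eq_zero_of_degree_le_three (by omega) (by omega),
        Multiset.eq_zero_iff_forall_notMem] at hirr
      push Not at hirr
      obtain ⟨x, hx⟩ := hirr
      exact ⟨x, (mem_roots hfm.ne_zero).mp hx⟩
    obtain ⟨g₂, hg₂⟩ := dvd_iff_isRoot.mpr hx₀
    have hg₂m : g₂.Monic := (monic_X_sub_C x₀).of_mul_monic_left (hg₂ ▸ hfm)
    have hg₂d : g₂.natDegree = 2 := by
      have := congrArg natDegree hg₂
      rw [(monic_X_sub_C x₀).natDegree_mul hg₂m, natDegree_X_sub_C, hfd] at this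
      omega
    obtain ⟨y₀, hy₀⟩ : ∃ x, g₂.IsRoot x := by
      by_contra hno
      have hirr2 : Irreducible g₂ := by
        rw [hg₂m.irreducible_iff_roots_eq_zero_of_degree_le_three (by omega) (by omega),
          Multiset.eq_zero_iff_forall_notMem]
        exact fun x hx => hno ⟨x, (mem_roots hg₂m.ne_zero).mp hx⟩
      haveI : Fact (Irreducible g₂) := ⟨hirr2⟩
      haveI : CharP (AdjoinRoot g₂) p := charP_of_injective_algebraMap (algebraMap F _).injective p
      set r := AdjoinRoot.root g₂ with hr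
      have hrf : aeval r f = 0 := by
        have h0 : aeval r g₂ = 0 := by rw [hr, AdjoinRoot.aeval_eq g₂, AdjoinRoot.mk_self]
        rw [hg₂, map_mul, h0, mul_zero]
      obtain ⟨hr0, hr1⟩ := charpoly_root_inv_pow hτ hq G hGu hdet hrf
      rw [← hf, hg₂, map_mul, mul_eq_zero] at hr1
      have hne := root_pow_card_ne (f := g₂) (by omega)
      rw [← hr, hF] at hne
      have hq10 : r ^ (q + 1) = 1 → False := fun h => hne (by
        rw [show q ^ 2 = (q + 1) * (q - 1) + 1 by zify [hq1.le]; ring, pow_add, pow_mul, h, one_pow,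
          one_mul, pow_one])
      rcases hr1 with h | h
      · rw [map_sub, aeval_X, aeval_C, sub_eq_zero] at h
        apply hne
        apply inv_injective
        refine iterateFrobenius_inj (AdjoinRoot g₂) p a ?_
        simp only [iterateFrobenius_def, ← hq]
        rw [← inv_pow, ← pow_mul, mul_comm, pow_mul, h, ← map_pow, ← hF, FiniteField.pow_card]
      · obtain ⟨i, hi, hri⟩ := exists_eq_pow_of_root h
        rw [← hr, hF, ← pow_mul] at hri
        have key : r ^ (q ^ (2 * i) + q) = 1 := by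
          rw [pow_add, ← hri, ← mul_pow, inv_mul_cancel₀ hr0, one_pow]
        rw [hg₂d] at hi
        refine hq10 ?_
        interval_cases i
        · simpa [add_comm] using key
        · refine iterateFrobenius_inj (AdjoinRoot g₂) p a ?_
          simp only [iterateFrobenius_def, ← hq, one_pow]
          rw [← pow_mul, ← key]
          ring_nf
    obtain ⟨g₁, hg₁⟩ := dvd_iff_isRoot.mpr hy₀
    have hg₁m : g₁.Monic := (monic_X_sub_C y₀).of_mul_monic_left (hg₁ ▸ hg₂m)
    have hg₁d : g₁.natDegree = 1 := by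
      have := congrArg natDegree hg₁
      rw [(monic_X_sub_C y₀).natDegree_mul hg₁m, natDegree_X_sub_C, hg₂d] at this
      omega
    obtain ⟨z₀, hz₀⟩ : ∃ z, g₁ = X - C z := ⟨-g₁.coeff 0, by
      rw [map_neg, sub_neg_eq_add]
      exact hg₁m.eq_X_add_C hg₁d⟩
    have hsplit : f = (X - C x₀) * ((X - C y₀) * (X - C z₀)) := by rw [hg₂, hg₁, hz₀]
    have hprod : x₀ * (y₀ * z₀) = 1 := by
      have := Matrix.det_eq_sign_charpoly_coeff G
      rw [hdet, Fintype.card_fin, ← hf, hsplit] at this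
      simp only [mul_coeff_zero, coeff_sub, coeff_X_zero, coeff_C_zero, zero_sub] at this
      rw [this]; ring
    -- the map `z ↦ (z⁻¹) ^ q` permutes the eigenvalues
    have hperm : ∀ z, z = x₀ ∨ z = y₀ ∨ z = z₀ → (z⁻¹ ^ q = x₀ ∨ z⁻¹ ^ q = y₀ ∨ z⁻¹ ^ q = z₀) := by
      intro z hz
      have h : aeval z f = 0 := by
        rw [hsplit]
        rcases hz with rfl | rfl | rfl <;> simp
      have h' := (charpoly_root_inv_pow hτ hq G hGu hdet h).2
      rw [← hf, hsplit] at h'
      simpa [mul_eq_zero, sub_eq_zero] using h'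
    obtain ⟨hx0, hy0, hz0⟩ : x₀ ≠ 0 ∧ y₀ ≠ 0 ∧ z₀ ≠ 0 := by
      refine ⟨?_, ?_, ?_⟩ <;> intro h <;> simp [h] at hprod
    have hinv : ∀ z : F, (z⁻¹ ^ q)⁻¹ ^ q = z := fun z => by
      rw [inv_pow z q, inv_inv, ← pow_mul, ← sq, ← hF, FiniteField.pow_card]
    have hfix : ∀ z : F, z ≠ 0 → z⁻¹ ^ q = z → z ^ (q + 1) = 1 := fun z hz h => by
      rw [pow_succ]
      nth_rw 2 [← h]
      rw [← mul_pow, mul_inv_cancel₀ hz, one_pow]
    obtain ⟨hd1, hd3⟩ := gcd_three_dvd q
    set d := Nat.gcd 3 (q + 1)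
    have hcube : ∀ w : F, w ^ d = 1 → w ^ 3 = 1 ∧ w ^ (q + 1) = 1 := fun w hw => by
      obtain ⟨u, hu⟩ := hd3
      obtain ⟨v, hv⟩ := hd1
      exact ⟨by rw [hu, pow_mul, hw, one_pow], by rw [hv, pow_mul, hw, one_pow]⟩
    -- a repeated eigenvalue
    have hrep : ∀ x z : F, x * (x * z) = 1 → (x⁻¹ ^ q = x ∨ x⁻¹ ^ q = z) →
        f = (X - C x) * ((X - C x) * (X - C z)) →
        orderOf (QuotientGroup.mk g : Cfsg.PSU 3 F q) ∣ p * ((q + 1) / d) := by
      intro x z hxz hx hfx
      have hx0 : x ≠ 0 := fun h => by simp [h] at hxz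
      have hz : z = (x ^ 2)⁻¹ := eq_inv_of_mul_eq_one_right (by rw [← hxz]; ring)
      have hxn : x ^ (q + 1) = 1 := by
        rcases hx with h | h
        · exact hfix x hx0 h
        · have h2 : x ^ q = x ^ 2 := by
            rw [hz, inv_pow] at h
            exact inv_injective h
          have h3 := hinv x
          rw [inv_pow x q, inv_inv, h2, ← pow_mul, mul_comm 2 q, pow_mul, h2, ← pow_mul] at h3
          have h4 : x ^ 3 = 1 := mul_right_cancel₀ hx0 (by rw [← pow_succ, one_mul]; exact h3)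
          rw [pow_succ, h2, ← pow_succ, h4]
      set m := (q + 1) / d with hm
      have hxm : (x ^ m) ^ d = 1 := by rw [← pow_mul, hm, Nat.div_mul_cancel hd1, hxn]
      have hω : (x ^ m) ^ 3 = 1 := (hcube _ hxm).1
      have hzm : z ^ m = x ^ m := by
        rw [hz, inv_pow, ← pow_mul, mul_comm, pow_mul]
        exact inv_eq_of_mul_eq_one_right (by rw [← pow_succ, hω])
      refine hdvd (c := (x ^ m) ^ p) ?_
      rw [mul_comm p, pow_mul]
      have hdiv : f ∣ (X ^ m - C (x ^ m)) ^ p := by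
        refine Dvd.dvd.trans ?_ (pow_dvd_pow _ hp3)
        have h1 : X - C x ∣ (X : F[X]) ^ m - C (x ^ m) :=
          dvd_iff_isRoot.mpr (by simp [IsRoot])
        have h2 : X - C z ∣ (X : F[X]) ^ m - C (x ^ m) :=
          dvd_iff_isRoot.mpr (by simp [IsRoot, hzm])
        rw [hfx, pow_succ, sq, mul_assoc]
        exact mul_dvd_mul h1 (mul_dvd_mul h1 h2)
      obtain ⟨h, hh⟩ := hdiv
      have h1 := congrArg (aeval G) hh
      rw [map_mul, hf, aeval_self_charpoly, zero_mul, map_pow, map_sub, map_pow, aeval_X, aeval_C,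
        Algebra.algebraMap_eq_smul_one, sub_pow_char_of_commute (p := p)
          (h := (Commute.one_right _).smul_right _), _root_.smul_pow, one_pow, sub_eq_zero] at h1
      exact h1
    by_cases hxy : x₀ = y₀
    · refine Or.inr (Or.inl (hrep x₀ z₀ (by rw [← hxy] at hprod; exact hprod) ?_
        (by rw [← hxy] at hsplit; exact hsplit)))
      rcases hperm x₀ (Or.inl rfl) with h | h | h
      · exact Or.inl h
      · exact Or.inl (h.trans hxy.symm)
      · exact Or.inr h
    by_cases hxz : x₀ = z₀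
    · refine Or.inr (Or.inl (hrep x₀ y₀ (by rw [← hprod, ← hxz]; ring) ?_
        (by rw [hsplit, ← hxz]; ring)))
      rcases hperm x₀ (Or.inl rfl) with h | h | h
      · exact Or.inl h
      · exact Or.inr h
      · exact Or.inl (h.trans hxz.symm)
    by_cases hyz : y₀ = z₀
    · refine Or.inr (Or.inl (hrep y₀ x₀ (by rw [← hprod, ← hyz]; ring) ?_
        (by rw [hsplit, ← hyz]; ring)))
      rcases hperm y₀ (Or.inr (Or.inl rfl)) with h | h | h
      · exact Or.inr h
      · exact Or.inl h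
      · exact Or.inl (h.trans hyz.symm)
    -- three distinct eigenvalues
    have hdiv : ∀ {k : ℕ} {c : F}, x₀ ^ k = c → y₀ ^ k = c → z₀ ^ k = c → f ∣ X ^ k - C c := by
      intro k c h1 h2 h3
      have e1 : X - C x₀ ∣ (X : F[X]) ^ k - C c := dvd_iff_isRoot.mpr (by simp [IsRoot, h1])
      have e2 : X - C y₀ ∣ (X : F[X]) ^ k - C c := dvd_iff_isRoot.mpr (by simp [IsRoot, h2])
      have e3 : X - C z₀ ∣ (X : F[X]) ^ k - C c := dvd_iff_isRoot.mpr (by simp [IsRoot, h3])
      rw [hsplit]
      exact ((isCoprime_X_sub_C_of_isUnit_sub (sub_ne_zero.mpr hxy).isUnit).mul_right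
        (isCoprime_X_sub_C_of_isUnit_sub (sub_ne_zero.mpr hxz).isUnit)).mul_dvd e1
        ((isCoprime_X_sub_C_of_isUnit_sub (sub_ne_zero.mpr hyz).isUnit).mul_dvd e2 e3)
    by_cases hall : x₀⁻¹ ^ q = x₀ ∧ y₀⁻¹ ^ q = y₀ ∧ z₀⁻¹ ^ q = z₀
    · exact Or.inl (hdvd (hkill (hdiv (hfix _ hx0 hall.1) (hfix _ hy0 hall.2.1)
        (hfix _ hz0 hall.2.2))))
    -- a pair of conjugate eigenvalues
    have hd2 : d ∣ q ^ 2 - 1 :=
      hd1.trans ⟨q - 1, by rw [← Nat.sq_sub_sq, one_pow]⟩
    set k := (q ^ 2 - 1) / d with hk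
    have hpair : ∀ x y z : F, x ≠ 0 → x⁻¹ ^ q = y → x * (y * z) = 1 →
        y ^ k = x ^ k ∧ z ^ k = x ^ k := by
      intro x y z hx hxy hxyz
      have hxd : (x ^ k) ^ d = 1 := by
        rw [← pow_mul, hk, Nat.div_mul_cancel hd2, ← hF, FiniteField.pow_card_sub_one_eq_one x hx]
      obtain ⟨h3, hq'⟩ := hcube _ hxd
      have hy : y ^ k = x ^ k := by
        rw [← hxy, inv_pow, inv_pow, ← pow_mul, mul_comm, pow_mul]
        exact inv_eq_of_mul_eq_one_right (by rw [← pow_succ, hq'])
      refine ⟨hy, ?_⟩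
      have h4 : x ^ k * (x ^ k * z ^ k) = x ^ k * (x ^ k * x ^ k) := by
        nth_rw 2 [← hy]
        rw [← mul_pow, ← mul_pow, hxyz, one_pow, ← h3]
        ring
      exact mul_left_cancel₀ (pow_ne_zero k hx) (mul_left_cancel₀ (pow_ne_zero k hx) h4)
    refine Or.inr (Or.inr (Or.inl (hdvd (c := x₀ ^ k) (hkill (hdiv rfl ?_ ?_)))))
    all_goals
      rcases hperm x₀ (Or.inl rfl) with h | h | h
      · -- `x₀` is fixed, so `y₀` and `z₀` are exchanged
        have hyz' : y₀⁻¹ ^ q = z₀ := by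
          rcases hperm y₀ (Or.inr (Or.inl rfl)) with e | e | e
          · exact absurd (by rw [← hinv y₀, e, h]) hxy
          · refine absurd ?_ hall
            refine ⟨h, e, ?_⟩
            rcases hperm z₀ (Or.inr (Or.inr rfl)) with e' | e' | e'
            · exact absurd (by rw [← hinv z₀, e', h]) hxz
            · exact absurd (by rw [← hinv z₀, e', e]) hyz
            · exact e'
          · exact e
        obtain ⟨e1, e2⟩ := hpair y₀ z₀ x₀ hy0 hyz' (by rw [← hprod]; ring)
        first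
          | exact e2.symm
          | rw [e1, e2]
      · obtain ⟨e1, e2⟩ := hpair x₀ y₀ z₀ hx0 h hprod
        first
          | exact e1
          | exact e2
      · obtain ⟨e1, e2⟩ := hpair x₀ z₀ y₀ hx0 h (by rw [← hprod]; ring)
        first
          | exact e1
          | exact e2

end CfsgLib.UnitOrders
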